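import Cfsg.Agent.Lib.SzUnique.Curve
import Cfsg.Agent.Lib.Lie.Suz.Twisted
import Cfsg.Agent.Lib.Char.FeitZassenhaus.Main

/-!
# Uniqueness of the Suzuki groups

A simple Zassenhaus group with non-abelian kernel of two-power order is a Suzuki group.
-/

set_option autoImplicit false
set_option linter.unusedSectionVars false
set_option linter.style.haveILetI false

namespace CfsgLib.SzUnique

open Cfsg MulAction CfsgLib.Char CfsgLib.Char.ZassenhausOdd CfsgLib.Char.FeitZ CfsgLib.Char.SuzZ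
open CfsgLib.Lie
open scoped MatrixGroups

section Model

variable {G Ω : Type*} [Group G] [MulAction G Ω] {F : Type} [Field F]

/-- The elements of `G` whose action is induced by an element of the Suzuki group through `σ`. -/
def induced (m : ℕ) [Fintype F] (σ : Ω → Projectivization F (Fin 4 → F)) : Subgroup G where
  carrier := {g | ∃ M ∈ Cfsg.Sz F m, ∀ ω, (M : SL(4, F)) • σ ω = σ (g • ω)}
  one_mem' := ⟨1, one_mem _, fun ω => by rw [one_smul, one_smul]⟩
  mul_mem' := by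
    rintro g g' ⟨M, hM, h⟩ ⟨M', hM', h'⟩
    exact ⟨M * M', mul_mem hM hM', fun ω => by rw [mul_smul, h', h, mul_smul]⟩
  inv_mem' := by
    rintro g ⟨M, hM, h⟩
    exact ⟨M⁻¹, inv_mem hM, fun ω => by rw [inv_smul_eq_iff, h, smul_inv_smul]⟩

end Model

variable {G Ω : Type*} [Group G] [Finite G] [MulAction G Ω] [Fintype Ω] {a b : Ω} {H : Subgroup G} {n : ℕ}
variable [IsSimpleGroup G]
variable {t : G} {F : Type} [Field F] [Finite F] [CharP F 2]

namespace Coord

theorem mem_of_gen (C : Coord G a b H t F n) (S : TwoKernel G a b H n) {K : Subgroup G} (ht : t ∈ K)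
    (hc : ∀ x y, C.c x y ∈ K) (hd : ∀ k, C.d k ∈ K) (g : G) : g ∈ K := by
  have hstab : ∀ g : G, g • a = a → g ∈ K := by
    intro g hga
    have hne : g • b ≠ a := fun h => S.pt.ne.symm (smul_left_cancel _ (h.trans hga.symm))
    obtain ⟨x, y, hxy⟩ := C.exists_point S hne
    have hs : (C.c x y)⁻¹ * g ∈ pairStab G a b := by
      refine ⟨?_, ?_⟩
      · show ((C.c x y)⁻¹ * g) • a = a
        rw [mul_smul, hga, inv_smul_eq_iff, C.smul_a S]
      · show ((C.c x y)⁻¹ * g) • b = b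
        rw [mul_smul, ← hxy, inv_smul_smul]
    obtain ⟨k, hk⟩ := C.d_surj _ hs
    rw [← mul_inv_cancel_left (C.c x y) g, ← hk]
    exact mul_mem (hc x y) (hd k)
  by_cases hga : g • a = a
  · exact hstab g hga
  obtain ⟨x, y, hxy⟩ := C.exists_point S hga
  have h : (C.c x y * t)⁻¹ * g ∈ K := hstab _ (by
    rw [mul_smul, inv_smul_eq_iff, mul_smul, C.swap.smul_left, hxy])
  rw [← mul_inv_cancel_left (C.c x y * t) g]
  exact mul_mem (mul_mem (hc x y) ht) h

theorem isoSuzuki (C : Coord G a b H t F n) (S : TwoKernel G a b H n) (hl : C.lam = 0) {m : ℕ}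
    (hm1 : 1 ≤ m) (hm : n = 2 * m + 1) (hcH : Nat.card H = (2 ^ n) ^ 2) : Cfsg.Lie.IsoSuzuki G := by
  classical
  letI : Fintype F := Fintype.ofFinite F
  have hF : Fintype.card F = 2 ^ (2 * m + 1) := by rw [← Nat.card_eq_fintype_card, C.card, hm]
  have hS := Suz.isSuzField hF
  have he := C.exponent_eq S hl hm
  have hth : ∀ z : F, Suz.th m z = z ^ 2 ^ C.e := fun z => by rw [he]; rfl
  -- the identification of the points
  have hex : ∀ ω : Ω, ω ≠ a → ∃ p : F × F, C.c p.1 p.2 • b = ω := fun ω hω =>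
    (C.exists_point S hω).elim fun x ⟨y, h⟩ => ⟨(x, y), h⟩
  let σ : Ω → Projectivization F (Fin 4 → F) := fun ω =>
    if h : ω = a then suzukiPointInfinity F else Suz.pt m (hex ω h).choose.1 (hex ω h).choose.2
  have hσa : σ a = suzukiPointInfinity F := dif_pos rfl
  have hσc : ∀ x y, σ (C.c x y • b) = Suz.pt m x y := by
    intro x y
    have hne := C.point_ne_left S x y
    simp only [σ, dif_neg hne]
    obtain ⟨h1, h2⟩ := C.point_inj S (hex _ hne).choose_spec
    rw [h1, h2]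
  have hσb : σ b = Suz.pt m 0 0 := by
    have := hσc 0 0
    rwa [C.c_zero, one_smul] at this
  have hinj : Function.Injective σ := by
    intro ω ω' h
    by_cases h1 : ω = a <;> by_cases h2 : ω' = a
    · rw [h1, h2]
    · obtain ⟨⟨x, y⟩, rfl⟩ := hex ω' h2
      subst h1
      rw [hσa, hσc] at h
      exact absurd h.symm (Suz.pt_ne_inf x y)
    · obtain ⟨⟨x, y⟩, rfl⟩ := hex ω h1
      subst h2
      rw [hσa, hσc] at h
      exact absurd h (Suz.pt_ne_inf x y)
    · obtain ⟨⟨x, y⟩, rfl⟩ := hex ω h1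
      obtain ⟨⟨x', y'⟩, rfl⟩ := hex ω' h2
      rw [hσc, hσc] at h
      obtain ⟨rfl, rfl⟩ := Suz.pt_inj h
      rfl
  -- everything is induced
  have hall : ∀ g : G, g ∈ induced m σ := by
    refine fun g => C.mem_of_gen S ?_ ?_ ?_ g
    · refine ⟨Suz.W, Suz.W_mem hS, fun ω => ?_⟩
      by_cases h : ω = a
      · subst h
        rw [C.swap.smul_left, hσa, hσb, Suz.pt_zero_zero, Suz.W_inf]
      obtain ⟨⟨x, y⟩, rfl⟩ := hex ω h
      by_cases hxy : x = 0 ∧ y = 0
      · obtain ⟨rfl, rfl⟩ := hxy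
        rw [hσc, Suz.pt_zero_zero, Suz.W_zero, C.c_zero, one_smul, C.swap.smul_right, hσa]
      rw [hσc, ← (C.R_ovoid S hl hm hxy : _ = t • C.c x y • b), hσc, Suz.W_pt hS hxy]
    · intro x y
      refine ⟨Suz.T m x y, Suz.T_mem hS x y, fun ω => ?_⟩
      by_cases h : ω = a
      · subst h
        rw [C.smul_a S, hσa, Suz.T_inf]
      obtain ⟨⟨x', y'⟩, rfl⟩ := hex ω h
      rw [hσc, Suz.T_pt hS, ← mul_smul, C.c_mul, hσc, hth, hl]
      congr 1 <;> ring
    · intro k
      refine ⟨Suz.H m k, Suz.H_mem hS k, fun ω => ?_⟩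
      have hka : C.d k • a = a := (C.d_mem k).1
      by_cases h : ω = a
      · subst h
        rw [hka, hσa, Suz.H_inf]
      obtain ⟨⟨x, y⟩, rfl⟩ := hex ω h
      have hcd := C.d_conj k x y
      rw [hσc, Suz.H_pt hS, show C.d k • C.c x y • b = C.c ((k : F) * x) ((k : F) * (k : F) ^ 2 ^ C.e * y) • b by
        rw [← hcd, mul_smul, mul_smul,
          show (C.d k)⁻¹ • b = b from (inv_mem (C.d_mem k) : (C.d k)⁻¹ ∈ pairStab G a b).2], hσc, hth]
      congr 1
      ring
  -- the isomorphism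
  choose M hM hMσ using hall
  have huniq : ∀ (M₁ M₂ : SL(4, F)), M₁ ∈ Cfsg.Sz F m → M₂ ∈ Cfsg.Sz F m →
      (∀ ω, M₁ • σ ω = M₂ • σ ω) → M₁ = M₂ := by
    intro M₁ M₂ h1 h2 h
    haveI := Suz.faithful hm1 hF
    refine congrArg Subtype.val (eq_of_smul_eq_smul (α := Cfsg.suzukiOvoid F m)
      (m₁ := (⟨M₁, h1⟩ : Cfsg.Sz F m)) (m₂ := ⟨M₂, h2⟩) fun p => Subtype.ext ?_)
    show M₁ • (p : Projectivization F (Fin 4 → F)) = M₂ • (p : Projectivization F (Fin 4 → F))
    rcases (Suz.ovoid_iff (p : Projectivization F (Fin 4 → F))).1 p.2 with h' | ⟨x, y, h'⟩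
    · rw [h', ← hσa]; exact h a
    · rw [h', ← hσc]; exact h _
  let φ : G →* Cfsg.Sz F m := MonoidHom.mk' (fun g => ⟨M g, hM g⟩) fun g g' => Subtype.ext
    (huniq _ _ (hM _) (mul_mem (hM g) (hM g')) fun ω => by
      show M (g * g') • σ ω = (M g * M g') • σ ω
      rw [hMσ, mul_smul (M g), hMσ, hMσ, mul_smul])
  have hφ : Function.Injective φ := by
    intro g g' h
    have h' : M g = M g' := congrArg Subtype.val h
    haveI := S.pt.zas.1
    refine toPerm_injective (α := G) (β := Ω) (Equiv.ext fun ω => hinj ?_)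
    show σ (g • ω) = σ (g' • ω)
    rw [← hMσ, h', hMσ]
  haveI : Finite (Cfsg.Sz F m) := inferInstance
  have hcard : Nat.card G = Nat.card (Cfsg.Sz F m) := by
    rw [Suz.card_Sz hm1 hF, card_group S.pt.zas S.pt.ne, ← S.pt.card, Nat.add_sub_cancel, hcH,
      show Nat.card (pairStab G a b) = 2 ^ n - 1 from Nat.eq_sub_of_add_eq S.card_pair, hF, hm]
    ring
  obtain ⟨ε⟩ := Suz.exists_twEquiv (F := F) hm1 hF
  exact ⟨F, inferInstance, inferInstance, m, hm1, hF,
    ⟨(MulEquiv.ofBijective φ ((Nat.bijective_iff_injective_and_card _).2 ⟨hφ, hcard⟩)).trans ε⟩⟩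

end Coord

/-- A simple Zassenhaus group with non-abelian kernel of two-power order is a Suzuki group. -/
theorem isoSuzuki_of_pt (P : Pt G a b H) (h2 : IsPGroup 2 H) (hna : ∃ x y : H, x * y ≠ y * x) :
    Cfsg.Lie.IsoSuzuki G := by
  obtain ⟨n, S, hn, hc⟩ := exists_square_kernel P h2 hna
  obtain ⟨F, i1, i2, i3, t, ⟨C⟩⟩ := exists_coord S hn hc
  obtain ⟨C', hl⟩ := C.exists_lam_zero S hn
  obtain ⟨m, hm⟩ := hn
  exact C'.isoSuzuki S hl (by have := S.two; omega) hm hc

/-- A finite simple Zassenhaus group is a two-dimensional projective special linear group or a Suzuki group. -/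
theorem psl_or_isoSuzuki {G Ω : Type*} [Group G] [Finite G] [MulAction G Ω] [Finite Ω]
    (hZ : Cfsg.IsZassenhausGroup G Ω) [IsSimpleGroup G] :
    (∃ (F : Type) (_ : Field F) (_ : Fintype F), Nonempty (G ≃* Matrix.ProjectiveSpecialLinearGroup (Fin 2) F)) ∨
      Cfsg.Lie.IsoSuzuki G := by
  classical
  haveI : Fintype Ω := Fintype.ofFinite Ω
  have h3 := zassenhaus_three_le hZ
  obtain ⟨a, b, hab⟩ := Fintype.exists_pair_of_one_lt_card (show 1 < Fintype.card Ω by omega)
  rcases Nat.even_or_odd (Nat.card ↥(MulAction.stabilizer G a ⊓ MulAction.stabilizer G b : Subgroup G)) with he | ho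
  · obtain ⟨p, f, K, i1, i2, -, -, -, -, -, e⟩ := CfsgLib.Perm.ZSimple.iso_psl hZ hab he
    exact Or.inl ⟨K, i1, i2, e⟩
  obtain ⟨K, hKa, hKn, hreg, hKcard⟩ := CfsgLib.Perm.ZEven.kernel_data hZ hab
  have hfix : ∀ u ∈ K, u ≠ 1 → ∀ c : Ω, u • c = c → c = a := by
    intro u hu hu1 c hc
    by_contra hca
    exact hu1 (congrArg Subtype.val ((hreg c c hca hca).unique (y₁ := ⟨u, hu⟩) (y₂ := 1) hc (one_smul G c)))
  have P : Pt G a b K := ⟨hZ, hab, hKa, hKcard, hfix, ho⟩
  rcases bound P with h | ⟨h2, hna, -⟩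
  · obtain ⟨hc, p, f, hp, -, hf⟩ := CfsgLib.Perm.ZReg.regular_elementary hZ hab (by
      show Fintype.card Ω - 2 ≤ 2 * Nat.card (pairStab G a b)
      omega) K hKa hKn hreg
    exact Or.inl (psl_of_comm P hKn hreg hc hp hf)
  · exact Or.inr (isoSuzuki_of_pt P h2 hna)

end CfsgLib.SzUnique
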