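import Cfsg.Agent.Lib.SzUnique.Swap
import Cfsg.Agent.S1139

/-!
# Uniqueness of the Suzuki groups: coordinates on the kernel

The kernel becomes `F × F` with the multiplication
`(x, y) (x', y') = (x + x', y + y' + (1 + λ) θ x x' + λ x θ x')`, `θ x = x ^ 2 ^ e`, the two-point
stabilizer becomes `Fˣ`, and the two relations of the swap involve `(1, 0)` and `(0, 1)`.
-/

set_option autoImplicit false
set_option linter.unusedSectionVars false
set_option linter.style.haveILetI false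

namespace CfsgLib.SzUnique

open Cfsg MulAction CfsgLib.Char CfsgLib.Char.ZassenhausOdd CfsgLib.Char.FeitZ CfsgLib.Char.SuzZ
open CfsgLib.TransInvol

/-- Coordinates. -/
structure Coord (G : Type*) [Group G] {Ω : Type*} [MulAction G Ω] (a b : Ω) (H : Subgroup G) (t : G)
    (F : Type) [Field F] (n : ℕ) where
  /-- the exponent of the twist -/
  e : ℕ
  /-- the cocycle parameter -/
  lam : F
  /-- the parametrisation of the kernel -/
  c : F → F → G
  /-- the parametrisation of the two-point stabilizer -/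
  d : Fˣ → G
  card : Nat.card F = 2 ^ n
  e_pos : 0 < e
  e_lt : e < n
  swap : IsSwap G a b t
  c_mem : ∀ x y, c x y ∈ H
  c_surj : ∀ g ∈ H, ∃ x y, c x y = g
  c_inj : ∀ {x y x' y'}, c x y = c x' y' → x = x' ∧ y = y'
  c_mul : ∀ x y x' y', c x y * c x' y' =
    c (x + x') (y + y' + ((1 + lam) * x ^ 2 ^ e * x' + lam * x * x' ^ 2 ^ e))
  d_mem : ∀ k, d k ∈ pairStab G a b
  d_surj : ∀ s ∈ pairStab G a b, ∃ k, d k = s
  d_conj : ∀ (k : Fˣ) x y, d k * c x y * (d k)⁻¹ = c ((k : F) * x) ((k : F) * (k : F) ^ 2 ^ e * y)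
  rel_one : t * c 0 1 * t = c 1 0 * t * (c 1 0)⁻¹
  rel_two : t * (c 1 0)⁻¹ * t = (c 1 0)⁻¹ * t * c 0 1

section Form

variable {F : Type} [Field F] [Finite F] [CharP F 2] {n : ℕ} (hcard : Nat.card F = 2 ^ n)
include hcard

/-- A biadditive map compatible with `x ↦ x θ x` has two terms. -/
theorem exists_two_terms {e : ℕ} (he : 0 < e) (hen : e < n) (β : F → F → F)
    (hl : ∀ u v w, β (u + v) w = β u w + β v w) (hr : ∀ u v w, β u (v + w) = β u v + β u w)
    (hhom : ∀ k u v, k ≠ 0 → β (k * u) (k * v) = k * k ^ 2 ^ e * β u v) :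
    ∃ P Q : F, ∀ u v, β u v = P * u ^ 2 ^ e * v + Q * u * v ^ 2 ^ e := by
  classical
  obtain ⟨b, hb⟩ := exists_comb hcard (AddMonoidHom.mk' (β 1) (hr 1))
  have hb' : ∀ v, β 1 v = ∑ i, b i * v ^ 2 ^ (i : ℕ) := fun v => by
    rw [← comb_apply, hb]; rfl
  have hβ : ∀ u v, u ≠ 0 →
      β u v = ∑ i : Fin n, b i * (u * u ^ 2 ^ e / u ^ 2 ^ (i : ℕ)) * v ^ 2 ^ (i : ℕ) := fun u v hu => by
    have h := hhom u 1 (v / u) hu
    rw [mul_one, mul_div_cancel₀ v hu, hb', Finset.mul_sum] at h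
    rw [h]
    refine Finset.sum_congr rfl fun i _ => ?_
    rw [div_pow]
    ring
  have hβ0 : ∀ v, β 0 v = 0 := fun v => by
    have h := hl 0 0 v
    rwa [add_zero, left_eq_add] at h
  let ψ : Fin n → F → F := fun i u => if u = 0 then 0 else b i * (u * u ^ 2 ^ e / u ^ 2 ^ (i : ℕ))
  have hβψ : ∀ u v, β u v = ∑ i, ψ i u * v ^ 2 ^ (i : ℕ) := fun u v => by
    by_cases hu : u = 0
    · subst hu; simp [ψ, hβ0]
    · rw [hβ u v hu]; simp [ψ, hu]
  have hψadd : ∀ i u u', ψ i (u + u') = ψ i u + ψ i u' := by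
    intro i u u'
    refine congrFun (comb_injective hcard (a₁ := fun j => ψ j (u + u')) (a₂ := fun j => ψ j u + ψ j u')
      (AddMonoidHom.ext fun v => ?_)) i
    rw [comb_apply, comb_apply, ← hβψ, hl, hβψ, hβψ, ← Finset.sum_add_distrib]
    exact Finset.sum_congr rfl fun j _ => by ring
  let j0 : Fin n := ⟨0, by omega⟩
  let je : Fin n := ⟨e, hen⟩
  have hzero : ∀ i, i ≠ j0 → i ≠ je → b i = 0 := by
    intro i hi0 hie
    by_contra hbi
    let ψ' : F →+ F := AddMonoidHom.mk' (fun u => ψ i u / b i) (fun u u' => by rw [hψadd, add_div])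
    have hh : ∀ u, ψ' u * u ^ 2 ^ (i : ℕ) = u * u ^ 2 ^ e := fun u => by
      by_cases hu : u = 0
      · subst hu; simp [ψ', ψ, zero_pow (Nat.two_pow_pos _).ne']
      · show ψ i u / b i * _ = _
        simp only [ψ, hu, if_false]
        field_simp
    have hpol : ∀ x y, ψ' x * y ^ 2 ^ (i : ℕ) + ψ' y * x ^ 2 ^ (i : ℕ) = x * y ^ 2 ^ e + y * x ^ 2 ^ e := by
      intro x y
      have h := hh (x + y)
      rw [map_add, add_pow_char_pow, add_pow_char_pow] at h
      linear_combination h - hh x - hh y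
    obtain ⟨dd, hdd⟩ := exists_comb hcard ψ'
    have hdiag : ∀ x, ψ' x = dd i * x ^ 2 ^ (i : ℕ) := by
      intro x
      have := congrFun (comb_injective hcard
        (a₁ := fun j => (if j = i then ψ' x else 0) + dd j * x ^ 2 ^ (i : ℕ))
        (a₂ := fun j => (if j = je then x else 0) + (if j = j0 then x ^ 2 ^ e else 0))
        (AddMonoidHom.ext fun y => by
          simp only [comb_apply, add_mul, Finset.sum_add_distrib, ite_mul, zero_mul, Finset.sum_ite_eq',
            Finset.mem_univ, if_true]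
          rw [show ∑ j : Fin n, dd j * x ^ 2 ^ (i : ℕ) * y ^ 2 ^ (j : ℕ) = ψ' y * x ^ 2 ^ (i : ℕ) by
            rw [← hdd, comb_apply, Finset.sum_mul]; exact Finset.sum_congr rfl fun j _ => by ring]
          simp only [je, j0, pow_zero, pow_one]
          linear_combination hpol x y)) i
      simp only [if_true, if_neg hie, if_neg hi0, add_zero] at this
      exact CharTwo.add_eq_zero.1 this
    have h1 : dd i = 1 := by
      have := hh 1
      rw [hdiag] at this
      simpa using this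
    have hid : ∀ x : F, x ^ 2 ^ e = x ^ 2 ^ 0 := fun x => by
      have h := hpol x 1
      rw [hdiag, hdiag, h1] at h
      simp only [one_mul, one_pow, mul_one, CharTwo.add_self_eq_zero] at h
      rw [pow_zero, pow_one]
      exact (CharTwo.add_eq_zero.1 h.symm).symm
    have h2 := congrFun (comb_injective hcard (a₁ := fun j => if j = je then 1 else 0)
      (a₂ := fun j => if j = j0 then 1 else 0) (AddMonoidHom.ext fun y => by
        simp only [comb_apply, ite_mul, zero_mul, Finset.sum_ite_eq', Finset.mem_univ, if_true, one_mul]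
        exact hid y)) je
    simp only [if_true, if_neg (show je ≠ j0 from fun h => by simp [je, j0] at h; omega)] at h2
    exact one_ne_zero h2
  refine ⟨b j0, b je, fun u v => ?_⟩
  by_cases hu : u = 0
  · subst hu; simp [hβ0, zero_pow (Nat.two_pow_pos _).ne']
  have hne : j0 ≠ je := fun h => by simp [je, j0] at h; omega
  rw [hβ u v hu, Fintype.sum_eq_add j0 je hne fun i hi => by rw [hzero i hi.1 hi.2, zero_mul, zero_mul]]
  simp only [j0, je, pow_zero, pow_one]
  field_simp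

end Form

variable {G Ω : Type*} [Group G] [Finite G] [MulAction G Ω] [Fintype Ω] {a b : Ω} {H : Subgroup G} {n : ℕ}
variable [IsSimpleGroup G]

theorem exists_coord (S : TwoKernel G a b H n) (hn : Odd n) (hc : Nat.card H = (2 ^ n) ^ 2) :
    ∃ (F : Type) (_ : Field F) (_ : Finite F) (_ : CharP F 2) (t : G),
      Nonempty (Coord G a b H t F n) := by
  classical
  obtain ⟨t, T⟩ := exists_isSwap S.pt
  obtain ⟨z, e, hzc, hz1, hec, hee, hA, hB⟩ := exists_relations S hn hc T
  set Z := Subgroup.center H with hZdef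
  haveI : IsCyclic (pairStab G a b) := (CfsgLib.Perm.ZSimple.cyclic_inverted S.pt.zas S.pt.ne).1
  obtain ⟨s0, hs0⟩ := IsCyclic.exists_monoid_generator (α := pairStab G a b)
  set N := 2 ^ n - 1 with hNdef
  have hN : Nat.card (pairStab G a b) = N := Nat.eq_sub_of_add_eq S.card_pair
  have hn2 := S.two
  set k : MulAut H := pairConj S.pt s0 with hk
  have hkpow : ∀ i : ℕ, k ^ i = pairConj S.pt (s0 ^ i) := fun i => (map_pow _ _ _).symm
  have hkN : k ^ N = 1 := by rw [hkpow, ← hN, pow_card_eq_one', map_one]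
  have hsq1 : ∀ x : H, x ^ 2 = 1 → x ∈ Z := fun x hx => by
    by_cases h1 : x = 1
    · rw [h1]; exact one_mem _
    · exact ((S.invol x).1 ⟨h1, by rwa [← sq]⟩).1
  have hcen2 : ∀ x ∈ Z, x ^ 2 = (1 : H) := fun x hx => by
    by_cases h1 : x = 1
    · rw [h1, one_pow]
    · rw [sq]; exact ((S.invol x).2 ⟨hx, h1⟩).2
  have hpowmem : ∀ s : pairStab G a b, ∃ i : ℕ, s0 ^ i = s := fun s =>
    (Submonoid.mem_powers_iff _ _).1 (hs0 s)
  have hcard2 : 4 ≤ 2 ^ n := by
    calc 4 = 2 ^ 2 := rfl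
      _ ≤ _ := Nat.pow_le_pow_right (by norm_num) hn2
  -- the field on the centre
  obtain ⟨F, fF, finF, chF, ⟨A⟩⟩ := exists_singer (G := H) (k := k)
    (by
      have h : 2 < Nat.card Z := by rw [hZdef, S.card_center]; omega
      obtain ⟨x, y, hxy, hx1, hy1⟩ : ∃ x y : Z, x ≠ y ∧ x ≠ 1 ∧ y ≠ 1 := by
        haveI := Fintype.ofFinite Z
        rw [Nat.card_eq_fintype_card, ← Finset.card_univ] at h
        obtain ⟨x, hx⟩ := Finset.exists_mem_notMem_of_card_lt_card (s := ({1} : Finset Z)) (t := Finset.univ) (by rw [Finset.card_singleton]; omega)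
        obtain ⟨y, hy⟩ := Finset.exists_mem_notMem_of_card_lt_card (s := ({1, x} : Finset Z)) (t := Finset.univ)
          (lt_of_le_of_lt (Finset.card_le_two) h)
        simp only [Finset.mem_insert, Finset.mem_singleton, not_or] at hy hx
        exact ⟨x, y, Ne.symm hy.2.2, hx.2, hy.2.1⟩
      exact ⟨x, y, fun h => hxy (Subtype.ext h), fun h => hx1 (Subtype.ext h), hcen2 _ x.2,
        fun h => hy1 (Subtype.ext h), hcen2 _ y.2⟩)
    (fun x hx g => ((Subgroup.mem_center_iff.1 (hsq1 x hx)) g).symm)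
    (fun x y hx hx2 hy hy2 => by
      obtain ⟨s, hs, hsx⟩ := S.trans x y hx (by rwa [← sq]) hy (by rwa [← sq])
      obtain ⟨i, hi⟩ := hpowmem ⟨s, hs⟩
      exact ⟨i, Subtype.ext (by rw [hkpow, hi]; exact hsx)⟩)
  haveI := chF
  have hιZ : ∀ u, A.ι u ∈ Z := fun u => hsq1 _ ((A.mem_iff _).2 ⟨u, rfl⟩)
  have hιsurj : ∀ x ∈ Z, ∃ u, A.ι u = x := fun x hx => (A.mem_iff x).1 (hcen2 x hx)
  have hAn : A.n = n := by
    refine Nat.pow_right_injective le_rfl ?_
    show 2 ^ A.n = 2 ^ n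
    rw [← A.card, ← S.card_center]
    refine Nat.card_eq_of_bijective (fun u => (⟨A.ι u, hιZ u⟩ : Z)) ⟨fun u v h => A.ι_inj (congrArg Subtype.val h), ?_⟩
    rintro ⟨x, hx⟩
    obtain ⟨u, hu⟩ := hιsurj x hx
    exact ⟨u, Subtype.ext hu⟩
  have hcard : Nat.card F = 2 ^ n := by rw [A.card, hAn]
  have hι0 : A.ι 0 = 1 := by
    have := A.ι_add 0 0
    rwa [add_zero, left_eq_mul] at this
  have hkι : ∀ (i : ℕ) u, (k ^ i) (A.ι u) = A.ι ((A.g : F) ^ i * u) := by
    intro i
    induction i with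
    | zero => simp
    | succ i ih => intro u; rw [pow_succ', MulAut.mul_apply, ih, A.k_ι, pow_succ', mul_assoc]
  -- the field on the central quotient
  set kV : MulAut (H ⧸ Z) := QuotientGroup.congr Z Z k (Subgroup.characteristic_iff_map_eq.1 inferInstance k) with hkV
  have hkVpow : ∀ (i : ℕ) (x : H), (kV ^ i) (x : H ⧸ Z) = ((k ^ i) x : H) := by
    intro i x
    induction i with
    | zero => rfl
    | succ i ih => rw [pow_succ', MulAut.mul_apply, ih, pow_succ', MulAut.mul_apply]; rfl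
  have hVsq : ∀ v : H ⧸ Z, v ^ 2 = 1 := fun v => by
    induction v using QuotientGroup.induction_on with
    | _ x => rw [← QuotientGroup.mk_pow, QuotientGroup.eq_one_iff, sq]; exact S.sq x
  have hVcard : Nat.card (H ⧸ Z) = 2 ^ n := by
    have h := Z.card_mul_index
    rw [Subgroup.index_eq_card, S.card_center, hc, sq (2 ^ n)] at h
    exact Nat.eq_of_mul_eq_mul_left (Nat.two_pow_pos n) h
  have htrV : ∀ x y : H ⧸ Z, x ≠ 1 → x ^ 2 = 1 → y ≠ 1 → y ^ 2 = 1 → ∃ i : ℕ, (kV ^ i) x = y := by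
    intro x y hx _ hy _
    induction x using QuotientGroup.induction_on with
    | _ x =>
    have hxZ : x ∉ Z := fun h => hx ((QuotientGroup.eq_one_iff x).2 h)
    let f : pairStab G a b → {v : H ⧸ Z // v ≠ 1} := fun s => ⟨((pairConj S.pt s x : H) : H ⧸ Z), fun h => hxZ (by
      have := MulEquivClass.apply_mem_center (pairConj S.pt s).symm ((QuotientGroup.eq_one_iff _).1 h)
      rwa [MulEquiv.symm_apply_apply] at this)⟩
    have hinj : Function.Injective f := by
      intro s s' hss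
      have h : (pairConj S.pt s x)⁻¹ * pairConj S.pt s' x ∈ Z := QuotientGroup.eq.1 (congrArg Subtype.val hss)
      have h2 := MulEquivClass.apply_mem_center (pairConj S.pt s).symm h
      rw [map_mul, map_inv, MulEquiv.symm_apply_apply] at h2
      have e1 : (pairConj S.pt s).symm (pairConj S.pt s' x) = pairConj S.pt (s⁻¹ * s') x := by
        rw [map_mul, map_inv]; rfl
      rw [e1] at h2
      have h3 := eq_one_of_fix_class S (s := ((s⁻¹ * s' : pairStab G a b) : G)) (s⁻¹ * s').2 hxZ h2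
      exact (inv_mul_eq_one.1 (Subtype.ext h3 : s⁻¹ * s' = 1))
    have hbij := hinj.bijective_of_nat_card_le (by
      show Nat.card ↥({1}ᶜ : Set (H ⧸ Z)) ≤ _
      rw [Nat.card_coe_set_eq, Set.ncard_compl, Set.ncard_singleton, hVcard, hN])
    obtain ⟨s, hs⟩ := hbij.2 ⟨y, hy⟩
    obtain ⟨i, hi⟩ := hpowmem s
    exact ⟨i, by rw [hkVpow, hkpow, hi]; exact congrArg Subtype.val hs⟩
  obtain ⟨F', fF', finF', chF', ⟨B⟩⟩ := exists_singer (G := H ⧸ Z) (k := kV)
    (by
      have hVe : ∀ u : F, (QuotientGroup.mk (A.ι u) : H ⧸ Z) = 1 := fun u => (QuotientGroup.eq_one_iff _).2 (hιZ u)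
      have he1 : (e : H ⧸ Z) ≠ 1 := fun h => hec ((QuotientGroup.eq_one_iff e).1 h)
      obtain ⟨y, hy⟩ : ∃ y : H ⧸ Z, y ∉ ({1, (e : H ⧸ Z)} : Set (H ⧸ Z)) := by
        by_contra h
        push Not at h
        have := (Set.ncard_le_ncard (show Set.univ ⊆ ({1, (e : H ⧸ Z)} : Set (H ⧸ Z)) from fun v _ => h v)
          (Set.toFinite _)).trans (Set.ncard_pair (Ne.symm he1)).le
        rw [Set.ncard_univ, hVcard] at this
        omega
      simp only [Set.mem_insert_iff, Set.mem_singleton_iff, not_or] at hy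
      exact ⟨e, y, Ne.symm hy.2, he1, hVsq _, hy.1, hVsq _⟩)
    (fun x _ g => by
      induction x using QuotientGroup.induction_on with
      | _ x =>
      induction g using QuotientGroup.induction_on with
      | _ g =>
      rw [← QuotientGroup.mk_mul, ← QuotientGroup.mk_mul, QuotientGroup.eq,
        show (x * g)⁻¹ * (g * x) = g⁻¹ * x⁻¹ * g * x by group]
      exact S.comm g x)
    htrV
  have hBn : B.n = n := by
    refine Nat.pow_right_injective le_rfl ?_
    show 2 ^ B.n = 2 ^ n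
    rw [← B.card, ← hVcard]
    exact Nat.card_eq_of_bijective B.ι ⟨B.ι_inj, fun v => (B.mem_iff v).1 (hVsq v)⟩
  haveI := Fintype.ofFinite F
  haveI := Fintype.ofFinite F'
  obtain ⟨ρ⟩ : Nonempty (F' ≃+* F) := ⟨FiniteField.ringEquivOfCardEq (by
    rw [← Nat.card_eq_fintype_card, ← Nat.card_eq_fintype_card, B.card, hcard, hBn])⟩
  set g2 : Fˣ := Units.map ρ.toRingHom.toMonoidHom B.g with hg2
  have hg2o : orderOf g2 = N := by
    rw [hg2, orderOf_injective _ (Units.map_injective ρ.injective), B.orderOf_g, hBn]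
  let π : F → H ⧸ Z := fun u => B.ι (ρ.symm u)
  have hπ : Function.Bijective π :=
    (Function.Bijective.comp (g := B.ι) ⟨B.ι_inj, fun v => (B.mem_iff v).1 (hVsq v)⟩ ρ.symm.bijective)
  have hπadd : ∀ u v, π (u + v) = π u * π v := fun u v => by simp only [π, map_add, B.ι_add]
  have hπk : ∀ u, kV (π u) = π ((g2 : F) * u) := fun u => by
    simp only [π, B.k_ι, map_mul, hg2, Units.coe_map]
    congr 2
    exact (ρ.symm_apply_apply _).symm
  -- a section with biadditive cocycle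
  obtain ⟨F3, fF3, finF3, φ, hF3, -, -, ⟨ψ⟩⟩ := Cfsg.Agent.S1139.result S.suz (by rw [S.card_center]; exact hc)
  haveI : CharP F3 2 := by
    haveI := Fact.mk Nat.prime_two
    rw [S.card_center] at hF3
    exact charP_of_card_eq_prime_pow hF3
  let el : F3 → F3 → H := fun x y => ψ.symm ⟨typeAElt (φ : F3 →+* F3) x y, (mem_suzukiTypeA _).2 ⟨x, y, rfl⟩⟩
  have hel : ∀ x y x' y', el x y * el x' y' = el (x + x') (y + y' + φ x * x') := fun x y x' y' => by
    simp only [el, ← map_mul]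
    exact congrArg _ (Subtype.ext (typeAElt_mul _ x y x' y'))
  have helsurj : ∀ h : H, ∃ x y, h = el x y := fun h => by
    obtain ⟨x, y, hxy⟩ := (mem_suzukiTypeA _).1 (ψ h).2
    refine ⟨x, y, ?_⟩
    show h = ψ.symm _
    rw [← ψ.symm_apply_apply h]
    exact congrArg ψ.symm (Subtype.ext hxy)
  have helinj : ∀ x y x' y', el x y = el x' y' → x = x' ∧ y = y' := fun x y x' y' h =>
    typeAElt_inj _ (congrArg Subtype.val (ψ.symm.injective h))
  have hel0 : el 0 0 = 1 := by
    simp only [el, ← map_one ψ.symm]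
    exact congrArg _ (Subtype.ext (typeAElt_zero _))
  have helZ : ∀ x y, el x y ∈ Z ↔ x = 0 := by
    intro x y
    constructor
    · intro h
      have h2 := hcen2 _ h
      rw [sq, hel, ← hel0] at h2
      have h3 := (helinj _ _ _ _ h2).2
      rw [CharTwo.add_self_eq_zero, zero_add] at h3
      rcases mul_eq_zero.1 h3 with h4 | h4
      · exact (map_eq_zero_iff φ φ.injective).1 h4
      · exact h4
    · rintro rfl
      refine hsq1 _ ?_
      rw [sq, hel, map_zero, zero_mul, add_zero, add_zero, CharTwo.add_self_eq_zero, hel0]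
  have hX : ∀ u, ∃ x, ((el x 0 : H) : H ⧸ Z) = π u := fun u => by
    obtain ⟨x, y, hxy⟩ := helsurj (π u).out
    refine ⟨x, ?_⟩
    rw [← QuotientGroup.out_eq' (π u), hxy, QuotientGroup.eq]
    have h := hel x 0 0 y
    rw [add_zero, mul_zero, add_zero, zero_add] at h
    rw [← h, inv_mul_cancel_left]
    exact (helZ 0 y).2 rfl
  choose X hXu using hX
  have hXadd : ∀ u v, X (u + v) = X u + X v := fun u v => by
    have h : ((el (X (u + v)) 0 : H) : H ⧸ Z) = ((el (X u + X v) (φ (X u) * X v) : H) : H ⧸ Z) := by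
      rw [hXu, hπadd, ← hXu u, ← hXu v, ← QuotientGroup.mk_mul, hel, zero_add, zero_add]
    rw [QuotientGroup.eq] at h
    obtain ⟨x, y, hxy⟩ := helsurj ((el (X (u + v)) 0)⁻¹ * el (X u + X v) (φ (X u) * X v))
    have hx0 : x = 0 := (helZ x y).1 (hxy ▸ h)
    have := congrArg (el (X (u + v)) 0 * ·) hxy
    simp only [mul_inv_cancel_left, hx0, hel, add_zero] at this
    exact (helinj _ _ _ _ this).1.symm
  let σ0 : F → H := fun u => el (X u) 0
  let co : F3 → F := fun y => Function.invFun A.ι (el 0 y)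
  have hco : ∀ y, A.ι (co y) = el 0 y := fun y => Function.invFun_eq (hιsurj _ ((helZ 0 y).2 rfl))
  have hcoadd : ∀ y y', co (y + y') = co y + co y' := fun y y' => A.ι_inj (by
    rw [A.ι_add, hco, hco, hco, hel, map_zero, zero_mul, add_zero, add_zero])
  let β0 : F → F → F := fun u v => co (φ (X u) * X v)
  have hσ0mul : ∀ u v, σ0 u * σ0 v = σ0 (u + v) * A.ι (β0 u v) := fun u v => by
    simp only [σ0, β0]
    rw [hco, hel, hel, hXadd]
    simp only [mul_zero, add_zero, zero_add]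
  -- averaging
  have hdelta : ∀ (i : ℕ) u, ∃ w, A.ι w = (σ0 u)⁻¹ * (k ^ i) (σ0 ((g2 : F)⁻¹ ^ i * u)) := by
    intro i u
    refine hιsurj _ (QuotientGroup.eq.1 ?_)
    rw [← hkVpow]
    show ((el (X u) 0 : H) : H ⧸ Z) = (kV ^ i) ((el (X ((g2 : F)⁻¹ ^ i * u)) 0 : H) : H ⧸ Z)
    rw [hXu, hXu]
    induction i generalizing u with
    | zero => simp
    | succ i ih =>
      rw [pow_succ kV, MulAut.mul_apply, hπk, pow_succ' ((g2 : F)⁻¹), ← mul_assoc, ← mul_assoc,
        mul_inv_cancel₀ g2.ne_zero, one_mul]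
      exact ih u
  choose δ hδ using hdelta
  have hδ' : ∀ i u, (k ^ i) (σ0 ((g2 : F)⁻¹ ^ i * u)) = σ0 u * A.ι (δ i u) := fun i u => by
    rw [hδ, mul_inv_cancel_left]
  have hιc : ∀ w (x : H), A.ι w * x = x * A.ι w := fun w x => (Subgroup.mem_center_iff.1 (hιZ w) x).symm
  have hδadd : ∀ i u v, δ i u + δ i v + δ i (u + v) =
      β0 u v + (A.g : F) ^ i * β0 ((g2 : F)⁻¹ ^ i * u) ((g2 : F)⁻¹ ^ i * v) := by
    intro i u v
    have h : σ0 u * A.ι (δ i u) * (σ0 v * A.ι (δ i v)) =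
        σ0 (u + v) * A.ι (δ i (u + v)) * A.ι ((A.g : F) ^ i * β0 ((g2 : F)⁻¹ ^ i * u) ((g2 : F)⁻¹ ^ i * v)) := by
      rw [← hδ', ← hδ', ← hδ', ← map_mul, hσ0mul, map_mul, hkι, ← mul_add]
    rw [show σ0 u * A.ι (δ i u) * (σ0 v * A.ι (δ i v)) = σ0 u * σ0 v * (A.ι (δ i u) * A.ι (δ i v)) by
      rw [mul_assoc, ← mul_assoc (A.ι _), hιc, mul_assoc, mul_assoc], hσ0mul, mul_assoc, mul_assoc,
      mul_right_inj, ← A.ι_add, ← A.ι_add, ← A.ι_add] at h
    have h' := A.ι_inj h
    linear_combination h' + CharTwo.add_self_eq_zero (δ i (u + v)) - CharTwo.add_self_eq_zero (β0 u v)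
  have hgN : (g2 : F) ^ N = 1 := by
    rw [← Units.val_pow_eq_pow_val, ← hg2o, pow_orderOf_eq_one, Units.val_one]
  have hδN : ∀ u, δ N u = δ 0 u := fun u => A.ι_inj (by
    rw [hδ, hδ, hkN, inv_pow, inv_pow, hgN, pow_zero, pow_zero])
  have hδ0 : ∀ u, δ 0 u = 0 := fun u => A.ι_inj (by
    rw [hδ, hι0, pow_zero, pow_zero, one_mul, MulAut.one_apply, inv_mul_cancel])
  have hδsucc : ∀ i u, δ (i + 1) ((g2 : F) * u) = δ 1 ((g2 : F) * u) + (A.g : F) * δ i u := by
    intro i u
    apply A.ι_inj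
    have e1 : (g2 : F)⁻¹ ^ (i + 1) * ((g2 : F) * u) = (g2 : F)⁻¹ ^ i * u := by
      rw [pow_succ, mul_assoc, inv_mul_cancel_left₀ g2.ne_zero]
    rw [A.ι_add, hδ, hδ, e1, ← A.k_ι, hδ, pow_one, pow_one, inv_mul_cancel_left₀ g2.ne_zero, map_mul, map_inv,
      pow_succ', MulAut.mul_apply]
    group
  let σ : F → H := fun u => σ0 u * A.ι (∑ i ∈ Finset.range N, δ i u)
  let β : F → F → F := fun u v =>
    ∑ i ∈ Finset.range N, (A.g : F) ^ i * β0 ((g2 : F)⁻¹ ^ i * u) ((g2 : F)⁻¹ ^ i * v)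
  have hNodd : Odd N := by
    rw [hNdef, Nat.odd_iff]
    have : 2 ∣ 2 ^ n := dvd_pow_self 2 (by omega)
    omega
  have hconst : ∀ w : F, ∑ _i ∈ Finset.range N, w = w := fun w => by
    obtain ⟨j, hj⟩ := hNodd
    rw [Finset.sum_const, Finset.card_range, hj, succ_nsmul, mul_nsmul', two_nsmul,
      CharTwo.add_self_eq_zero, zero_add]
  have hσmul : ∀ u v, σ u * σ v = σ (u + v) * A.ι (β u v) := by
    intro u v
    simp only [σ, β]
    rw [mul_assoc, ← mul_assoc (A.ι _), hιc, mul_assoc, ← mul_assoc, hσ0mul, mul_assoc, mul_assoc,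
      mul_right_inj, ← A.ι_add, ← A.ι_add, ← A.ι_add]
    congr 1
    have h := Finset.sum_congr rfl fun i (_ : i ∈ Finset.range N) => hδadd i u v
    rw [Finset.sum_add_distrib, Finset.sum_add_distrib, Finset.sum_add_distrib, hconst] at h
    linear_combination h + CharTwo.add_self_eq_zero (β0 u v) -
      CharTwo.add_self_eq_zero (∑ i ∈ Finset.range N, δ i (u + v))
  have hkσ : ∀ u, k (σ u) = σ ((g2 : F) * u) := by
    intro u
    simp only [σ]
    have h1 := hδ' 1 ((g2 : F) * u)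
    rw [pow_one, pow_one, inv_mul_cancel_left₀ g2.ne_zero] at h1
    rw [map_mul, h1, A.k_ι, mul_assoc, ← A.ι_add]
    congr 2
    have h2 : ∑ i ∈ Finset.range N, δ (i + 1) ((g2 : F) * u) = ∑ i ∈ Finset.range N, δ i ((g2 : F) * u) := by
      have h3 := Finset.sum_range_succ' (fun i => δ i ((g2 : F) * u)) N
      rw [Finset.sum_range_succ, hδN, hδ0] at h3
      simpa using h3.symm
    rw [← h2, Finset.sum_congr rfl fun i _ => hδsucc i u, Finset.sum_add_distrib, hconst, Finset.mul_sum]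
  have hσπ : ∀ u, ((σ u : H) : H ⧸ Z) = π u := fun u => by
    simp only [σ, σ0, QuotientGroup.mk_mul, hXu, (QuotientGroup.eq_one_iff _).2 (hιZ _), mul_one]
  have hβl : ∀ u v w, β (u + v) w = β u w + β v w := fun u v w => by
    simp only [β, β0, mul_add, hXadd, map_add, add_mul, hcoadd, Finset.sum_add_distrib]
  have hβr : ∀ u v w, β u (v + w) = β u v + β u w := fun u v w => by
    simp only [β, β0, mul_add, hXadd, hcoadd, Finset.sum_add_distrib]
  clear_value σ β
  have hβk : ∀ u v, β ((g2 : F) * u) ((g2 : F) * v) = (A.g : F) * β u v := fun u v => A.ι_inj (by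
    have h := congrArg k (hσmul u v)
    rw [map_mul, map_mul, hkσ, hkσ, hkσ, A.k_ι, hσmul, mul_add, mul_right_inj] at h
    exact h)
  -- the twist
  have hσsurj : ∀ x : H, ∃ u w, x = σ u * A.ι w := fun x => by
    obtain ⟨u, hu⟩ := hπ.2 (x : H ⧸ Z)
    obtain ⟨w, hw⟩ := hιsurj _ (QuotientGroup.eq.1 ((hσπ u).trans hu))
    exact ⟨u, w, by rw [hw, mul_inv_cancel_left]⟩
  obtain ⟨u₀, v₀, hne⟩ : ∃ u v, β u v + β v u ≠ 0 := by
    by_contra hcon
    push Not at hcon
    obtain ⟨x, y, hxy⟩ := S.suz.2.2.1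
    obtain ⟨u, w, rfl⟩ := hσsurj x
    obtain ⟨u', w', rfl⟩ := hσsurj y
    refine hxy ?_
    have e1 : ∀ u u' w w', σ u * A.ι w * (σ u' * A.ι w') = σ (u + u') * A.ι (β u u' + (w + w')) := fun u u' w w' => by
      rw [mul_assoc, ← mul_assoc (A.ι w), hιc w (σ u'), mul_assoc, ← mul_assoc, hσmul, mul_assoc, ← A.ι_add,
        ← A.ι_add]
    rw [e1, e1, add_comm u, add_comm w, CharTwo.add_eq_zero.1 (hcon u u')]
  obtain ⟨i, j, hi, hj, hij, hgij⟩ := exists_exponents hcard (g2 : F) (A.g : F) (fun u v => β u v + β v u)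
    (fun u v w => by rw [hβl, hβr]; abel) (fun u v w => by rw [hβl, hβr]; abel)
    (fun u => CharTwo.add_self_eq_zero _) (fun u v => by rw [hβk, hβk, mul_add]) hne
  set μ : Fˣ := g2 ^ 2 ^ i with hμdef
  set e0 := (j + (n - i)) % n with he0
  have he0lt : e0 < n := Nat.mod_lt _ (by omega)
  have he0pos : 0 < e0 := by
    by_contra h
    have h0 : (j + (n - i)) % n = 0 := by omega
    rcases lt_or_ge j i with hji | hji
    · rw [Nat.mod_eq_of_lt (by omega)] at h0; omega
    · rw [show j + (n - i) = j - i + n by omega, Nat.add_mod_right, Nat.mod_eq_of_lt (by omega)] at h0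
      omega
  have hAμ : (A.g : F) = (μ : F) * (μ : F) ^ 2 ^ e0 := by
    rw [hgij, hμdef, Units.val_pow_eq_pow_val, ← pow_mul, ← pow_add (2 : ℕ), pow_add (g2 : F),
      pow_two_pow_mod hcard (g2 : F) (i + e0), he0, Nat.add_mod_mod,
      show i + (j + (n - i)) = j + n by omega, Nat.add_mod_right, Nat.mod_eq_of_lt hj]
  let τ : F → F := fun x => x ^ 2 ^ (n - i)
  have hτadd : ∀ x y, τ (x + y) = τ x + τ y := fun x y => add_pow_char_pow x y 2 (n - i)
  have hτinj : Function.Injective τ := iterateFrobenius_inj F 2 (n - i)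
  have hτμ : ∀ x, τ ((μ : F) * x) = (g2 : F) * τ x := fun x => by
    simp only [τ, hμdef, mul_pow, Units.val_pow_eq_pow_val, ← pow_mul, ← pow_add (2 : ℕ),
      show i + (n - i) = n by omega, pow_two_pow_card hcard]
  have hμo : orderOf μ = N := by
    have h1 : g2 = μ ^ 2 ^ (n - i) := Units.ext (by
      rw [Units.val_pow_eq_pow_val, hμdef, Units.val_pow_eq_pow_val, ← pow_mul, ← pow_add (2 : ℕ),
        show i + (n - i) = n by omega, pow_two_pow_card hcard])
    refine Nat.dvd_antisymm (hg2o ▸ orderOf_pow_dvd _) ?_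
    rw [← hg2o]
    conv_lhs => rw [h1]
    exact orderOf_pow_dvd _
  have hμpow : ∀ x : Fˣ, ∃ l : ℕ, μ ^ l = x := fun x => by
    have htop : Subgroup.zpowers μ = ⊤ := Subgroup.eq_top_of_card_eq _ (by
      rw [Nat.card_zpowers, hμo, Nat.card_units, hcard])
    exact Submonoid.mem_powers_iff _ _ |>.1 (mem_powers_iff_mem_zpowers.2 (htop ▸ Subgroup.mem_top x))
  have hσkl : ∀ (l : ℕ) u, (k ^ l) (σ (τ u)) = σ (τ ((μ : F) ^ l * u)) := by
    intro l
    induction l with
    | zero => simp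
    | succ l ih => intro u; rw [pow_succ', MulAut.mul_apply, ih, hkσ, ← hτμ, pow_succ', mul_assoc]
  -- the form
  obtain ⟨P, Q, hPQ⟩ := exists_two_terms hcard he0pos he0lt (fun u v => β (τ u) (τ v))
    (fun u v w => by rw [hτadd, hβl]) (fun u v w => by rw [hτadd, hβr]) (fun x u v hx => by
      obtain ⟨l, hl⟩ := hμpow (Units.mk0 x hx)
      have hlx : (μ : F) ^ l = x := by rw [← Units.val_pow_eq_pow_val, hl, Units.val_mk0]
      rw [← hlx, pow_right_comm, ← mul_pow, ← hAμ]
      clear hlx hl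
      induction l with
      | zero => simp
      | succ l ih => rw [pow_succ', mul_assoc, mul_assoc, hτμ, hτμ, hβk, ih, pow_succ' (A.g : F), mul_assoc])
  obtain ⟨u1, hu1⟩ : ∃ u1, π (τ u1) = e := (hπ.comp (Finite.injective_iff_bijective.1 hτinj)).2 _
  obtain ⟨h0, hh0⟩ := hιsurj _ (QuotientGroup.eq.1 ((hσπ (τ u1)).trans hu1))
  obtain ⟨z1, hz1'⟩ := hιsurj z hzc
  have hz10 : z1 ≠ 0 := fun h => hz1 (by rw [← hz1', h, hι0])
  have hσ00 : σ 0 = 1 := by
    have h1 := hσmul 0 0
    have h2 : β 0 0 = 0 := by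
      have h3 := hβl 0 0 0
      rwa [add_zero, left_eq_add] at h3
    rwa [add_zero, h2, hι0, mul_one, mul_eq_left] at h1
  have hu10 : u1 ≠ 0 := fun h => hec ((QuotientGroup.eq_one_iff e).1 (by
    rw [← hu1, h, ← hσπ, show τ 0 = 0 from zero_pow (Nat.two_pow_pos _).ne', hσ00, QuotientGroup.mk_one]))
  let cc : F → F → H := fun x y => σ (τ (u1 * x)) * A.ι (z1 * y + h0 * (x * x ^ 2 ^ e0))
  have hcc : ∀ x y x' y', cc x y * cc x' y' = cc (x + x') (y + y' +
      ((P * (u1 * u1 ^ 2 ^ e0) + h0) / z1 * x ^ 2 ^ e0 * x' + (Q * (u1 * u1 ^ 2 ^ e0) + h0) / z1 * x * x' ^ 2 ^ e0)) := by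
    intro x y x' y'
    simp only [cc]
    rw [mul_assoc, ← mul_assoc (A.ι _), hιc, mul_assoc, ← mul_assoc, hσmul, mul_assoc, ← A.ι_add, ← A.ι_add,
      ← hτadd, ← mul_add, hPQ]
    congr 2
    rw [mul_pow, mul_pow, add_pow_char_pow]
    field_simp
    linear_combination -CharTwo.add_self_eq_zero (h0 * x ^ 2 ^ e0 * x') -
      CharTwo.add_self_eq_zero (h0 * x * x' ^ 2 ^ e0)
  have hc01 : cc 0 1 = z := by
    simp only [cc, mul_zero, τ, zero_pow (Nat.two_pow_pos _).ne', hσ00, one_mul, mul_one, add_zero, hz1']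
  have hc10 : cc 1 0 = e := by
    simp only [cc, mul_one, mul_zero, zero_add, one_pow, hh0, mul_inv_cancel_left]
  have hinj : ∀ x y x' y', cc x y = cc x' y' → x = x' ∧ y = y' := by
    intro x y x' y' h
    have h' := congrArg (fun g : H => (g : H ⧸ Z)) h
    simp only [cc, QuotientGroup.mk_mul, hσπ, (QuotientGroup.eq_one_iff _).2 (hιZ _), mul_one] at h'
    have hx : x = x' := mul_left_cancel₀ hu10 (hτinj (hπ.1 h'))
    subst hx
    exact ⟨rfl, mul_left_cancel₀ hz10 (add_right_cancel (A.ι_inj (mul_left_cancel h)))⟩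
  have hsum : (P * (u1 * u1 ^ 2 ^ e0) + h0) / z1 + (Q * (u1 * u1 ^ 2 ^ e0) + h0) / z1 = 1 := by
    have h := hcc 1 0 1 0
    rw [hc10, hee, ← hc01] at h
    have h2 := (hinj _ _ _ _ h).2
    rw [one_pow, mul_one, mul_one, mul_one, mul_one, add_zero, zero_add] at h2
    exact h2.symm
  choose L hL using hμpow
  have hs0 : ∀ l l', μ ^ l = μ ^ l' → s0 ^ l = s0 ^ l' := fun l l' h => by
    rw [pow_eq_pow_iff_modEq, hμo] at h
    exact pow_eq_pow_iff_modEq.2 (h.of_dvd (hN ▸ orderOf_dvd_natCard s0))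
  refine ⟨F, fF, finF, chF, t, ⟨{
    e := e0
    lam := (Q * (u1 * u1 ^ 2 ^ e0) + h0) / z1
    c := fun x y => (cc x y : G)
    d := fun x => ((s0 ^ L x : pairStab G a b) : G)
    card := hcard
    e_pos := he0pos
    e_lt := he0lt
    swap := T
    c_mem := fun x y => (cc x y).2
    c_surj := fun g hg => by
      obtain ⟨u, w, huw⟩ := hσsurj ⟨g, hg⟩
      obtain ⟨v, rfl⟩ := (Finite.injective_iff_bijective.1 hτinj).2 u
      refine ⟨v / u1, (w - h0 * ((v / u1) * (v / u1) ^ 2 ^ e0)) / z1, ?_⟩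
      simp only [cc]
      rw [mul_div_cancel₀ v hu10, mul_div_cancel₀ _ hz10, sub_add_cancel, ← huw]
    c_inj := fun h => hinj _ _ _ _ (Subtype.ext h)
    c_mul := fun x y x' y' => by
      rw [← Subgroup.coe_mul, hcc]
      congr 2
      have e1 : (P * (u1 * u1 ^ 2 ^ e0) + h0) / z1 = 1 + (Q * (u1 * u1 ^ 2 ^ e0) + h0) / z1 := by
        linear_combination hsum - CharTwo.add_self_eq_zero ((Q * (u1 * u1 ^ 2 ^ e0) + h0) / z1)
      rw [e1]
    d_mem := fun x => SetLike.coe_mem _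
    d_surj := fun s hs => by
      obtain ⟨l, hl⟩ := hpowmem ⟨s, hs⟩
      exact ⟨μ ^ l, by rw [hs0 _ l (hL _), hl]⟩
    d_conj := fun x p q => by
      show (((pairConj S.pt (s0 ^ L x)) (cc p q) : H) : G) = _
      congr 1
      have hx : (μ : F) ^ L x = (x : F) := by rw [← Units.val_pow_eq_pow_val, hL]
      rw [← hkpow]
      simp only [cc]
      rw [map_mul, hσkl, hkι, hAμ, mul_pow, pow_right_comm, hx]
      congr 3 <;> ring
    rel_one := by rw [hc01, hc10]; exact hA
    rel_two := by rw [hc01, hc10]; exact hB }⟩⟩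

end CfsgLib.SzUnique
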