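import Cfsg.Agent.Lib.SzUnique.Poly
import Cfsg.Agent.Lib.Lie.Suz.Basic

/-!
# Uniqueness of the Suzuki groups: the swap is the inversion of the ovoid

With cocycle `θ x x'` the relations of the swap force `θ θ x = x ^ 2` and the formula
`(x, y) ↦ (y / f, x / f)`, where `f = x y + θ x x ^ 2 + θ y`.
-/

set_option autoImplicit false
set_option linter.unusedSectionVars false
set_option linter.style.haveILetI false

namespace CfsgLib.SzUnique

open Cfsg MulAction CfsgLib.Char CfsgLib.Char.ZassenhausOdd CfsgLib.Char.FeitZ CfsgLib.Char.SuzZ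

variable {G Ω : Type*} [Group G] [Finite G] [MulAction G Ω] [Fintype Ω] {a b : Ω} {H : Subgroup G} {n : ℕ}
variable [IsSimpleGroup G]
variable {t : G} {F : Type} [Field F] [Finite F] [CharP F 2]

namespace Coord

variable (C : Coord G a b H t F n)

theorem R_one_zero (S : TwoKernel G a b H n) : C.R 1 0 0 1 := (C.R_base S).symm

theorem R_one_one (S : TwoKernel G a b H n) : C.R 1 1 1 1 := by
  have h := congrArg (· • a) C.rel_two
  simp only [mul_smul] at h
  rw [C.swap.smul_left, show C.c 0 1 • a = a from C.smul_a S 0 1, C.swap.smul_left, C.e_inv] at h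
  exact h.symm

theorem exists_root (j : ℕ) (y : F) : ∃ x : F, x ^ 2 ^ j = y :=
  (Finite.injective_iff_bijective.1
    (show Function.Injective fun x : F => x ^ 2 ^ j from iterateFrobenius_inj F 2 j)).2 y

/-- The points paired with `(1, y)` lie on the curve `x = y y'`. -/
theorem exists_curve (S : TwoKernel G a b H n) (hl : C.lam = 0) (y : F) :
    ∃ Y, C.R 1 y (y * Y) Y := by
  by_cases hy0 : y = 0
  · subst hy0; exact ⟨1, by rw [zero_mul]; exact C.R_one_zero S⟩
  by_cases hy1 : y = 1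
  · subst hy1; exact ⟨1, by rw [one_mul]; exact C.R_one_one S⟩
  obtain ⟨ρ, rfl⟩ := exists_root C.e y
  have hρ0 : ρ ≠ 0 := fun h => hy0 (by rw [h, zero_pow (Nat.two_pow_pos _).ne'])
  have hρ1 : ρ ≠ 1 := fun h => hy1 (by rw [h, one_pow])
  have hρ1' : 1 + ρ ≠ 0 := fun h => hρ1 (CharTwo.add_eq_zero.1 h).symm
  set k := ρ / (1 + ρ) with hk
  have hk0 : k ≠ 0 := div_ne_zero hρ0 hρ1'
  have hk1' : 1 + k = 1 / (1 + ρ) := by
    rw [hk]; field_simp
    linear_combination ρ * (CharTwo.two_eq_zero : (2 : F) = 0)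
  have hk1 : k ≠ 1 := fun h => by
    rw [h, CharTwo.add_self_eq_zero, eq_comm, one_div, inv_eq_zero] at hk1'
    exact hρ1' hk1'
  obtain ⟨m, hm0, -, hkm⟩ := C.exists_partner S hk0 hk1
  have h := C.R_curve S hk0 hk1 hm0 hkm
  rw [hl] at h
  simp only [add_zero, one_mul, zero_mul] at h
  have hk1n : 1 + k ≠ 0 := fun h => hk1 (CharTwo.add_eq_zero.1 h).symm
  have hkρ : k / (1 + k) = ρ := by
    rw [hk1', hk]; field_simp
  have hT : k ^ 2 ^ C.e ≠ 0 := pow_ne_zero _ hk0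
  have hr : (C.chi k + k ^ 2 ^ C.e) / C.chi (1 + k) = ρ ^ 2 ^ C.e := by
    clear_value k
    rw [← hkρ, div_pow, chi, chi]
    have : (1 + k) ^ 2 ^ C.e ≠ 0 := pow_ne_zero _ hk1n
    field_simp
    ring
  rw [hr] at h
  refine ⟨(1 + m⁻¹) * C.chi (1 + k⁻¹), ?_⟩
  convert h using 1
  rw [← hkρ, show 1 + k⁻¹ = (1 + k) / k by field_simp; ring, div_pow, C.chi_div, chi, chi]
  have : (1 + k) ^ 2 ^ C.e ≠ 0 := pow_ne_zero _ hk1n
  field_simp

/-- The ordinate of the point paired with `(1, y)`. -/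
theorem curve_eq (S : TwoKernel G a b H n) (hl : C.lam = 0) {j Y : F} (hj : j ≠ 0)
    (h : C.R 1 (C.chi j) (C.chi j * Y) Y) : Y * (1 + C.chi j + C.chi j * j) = 1 := by
  have hs := (C.R_shift S hj h).symm
  obtain ⟨Y', h'⟩ := C.exists_curve S hl (1 + C.chi j)
  obtain ⟨h1, h2⟩ := C.R_unique S hs h'
  rw [hl] at h2
  simp only [add_zero, one_mul, zero_mul] at h2
  rw [← h2] at h1
  refine mul_left_cancel₀ (C.chi_ne_zero hj) ?_
  linear_combination -h1 - C.chi j * (CharTwo.two_eq_zero : (2 : F) = 0)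

theorem twist_twist (S : TwoKernel G a b H n) (hl : C.lam = 0) (k : F) :
    (k ^ 2 ^ C.e) ^ 2 ^ C.e = k ^ 2 := by
  by_cases hk0 : k = 0
  · subst hk0; simp
  by_cases hk1 : k = 1
  · subst hk1; simp
  obtain ⟨m, hm0, hm1, hkm⟩ := C.exists_partner S hk0 hk1
  have hk1' : 1 + k ≠ 0 := fun h => hk1 (CharTwo.add_eq_zero.1 h).symm
  have hm1' : 1 + m ≠ 0 := fun h => hm1 (CharTwo.add_eq_zero.1 h).symm
  have hc := C.R_curve S hk0 hk1 hm0 hkm
  rw [hl] at hc
  simp only [add_zero, one_mul, zero_mul] at hc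
  have hT0 : k ^ 2 ^ C.e ≠ 0 := pow_ne_zero _ hk0
  have hT1' : 1 + k ^ 2 ^ C.e ≠ 0 := fun h => hk1' ((pow_eq_zero_iff (Nat.two_pow_pos C.e).ne').1 (by
    rw [add_pow_char_pow, one_pow, h]))
  set r := (C.chi k + k ^ 2 ^ C.e) / C.chi (1 + k) with hr
  have hrT : r = k ^ 2 ^ C.e / (1 + k ^ 2 ^ C.e) := by
    rw [hr, chi, chi, add_pow_char_pow, one_pow]
    field_simp
    ring
  have hr0 : r ≠ 0 := by rw [hrT]; exact div_ne_zero hT0 hT1'
  have hE := C.equation S hk0 hk1 hkm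
  rw [hl] at hE
  simp only [add_zero, one_mul, zero_mul] at hE
  set j := k ^ 2 * (1 + k + m) / ((1 + k) * (1 + m)) with hjd
  have hjr : C.chi j = r := by
    rw [hjd, hr, C.chi_div, pow_two, C.chi_mul, C.chi_mul, C.chi_mul, ← pow_two, ← hE]
    field_simp [C.chi_ne_zero hk1', C.chi_ne_zero hm1']
  have hj0 : j ≠ 0 := fun h => hr0 (by rw [← hjr, h, C.chi_zero])
  obtain ⟨Y, hY⟩ := C.exists_curve S hl r
  have hX := (C.R_unique S hc hY).1
  rw [← hjr] at hY
  have hY' := C.curve_eq S hl hj0 hY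
  rw [hjr] at hY'
  have h1 : (1 + m⁻¹) * (1 + k⁻¹) * (1 + r + r * j) = r := by
    rw [hX, mul_assoc, hY', mul_one]
  rw [hrT, hjd] at h1
  field_simp at h1
  have h2 : (2 : F) = 0 := CharTwo.two_eq_zero
  set T := k ^ 2 ^ C.e with hT
  have h3 : m * (1 + k * T) = 1 + k ^ 2 * T := by
    refine mul_left_cancel₀ hk1' ?_
    have h1' : (1 + T + T) * (1 + k) * (1 + m) + k ^ 2 * T * (1 + k + m) = m * k * T := by
      refine mul_left_cancel₀ (mul_ne_zero hk1' hm1') ?_
      linear_combination h1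
    linear_combination h1' + (-(1 + k) + m * k * T - k ^ 2 * T - k ^ 3 * T - T * (1 + k) * (1 + m)) * h2
  have hmM : m * m ^ 2 ^ C.e = 1 + k * T := hkm
  have h4 := congrArg (fun z => z ^ 2 ^ C.e) h3
  simp only [mul_pow, add_pow_char_pow, one_pow, ← hT, pow_right_comm k 2 (2 ^ C.e)] at h4
  set U := T ^ 2 ^ C.e
  set M := m ^ 2 ^ C.e
  have h5 : T * (1 + T) * (U - k ^ 2) = 0 := by
    linear_combination -(1 + k * T) * (1 + T * U) * hmM + M * (1 + T * U) * h3 + (1 + k ^ 2 * T) * h4 +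
      (T ^ 2 * U - k ^ 2 * T ^ 2 - k * T * (1 + T * U)) * h2
  rcases mul_eq_zero.1 h5 with h6 | h6
  · exact absurd h6 (mul_ne_zero hT0 hT1')
  · exact sub_eq_zero.1 h6

theorem exponent_eq (S : TwoKernel G a b H n) (hl : C.lam = 0) {m : ℕ} (hm : n = 2 * m + 1) :
    C.e = m + 1 := by
  haveI := Fintype.ofFinite F
  have hn2 := S.two
  obtain ⟨g, hg⟩ := IsCyclic.exists_ofOrder_eq_natCard (α := Fˣ)
  rw [Nat.card_units, C.card] at hg
  have hge : g ^ 2 ^ (2 * C.e) = g ^ 2 := by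
    ext
    rw [Units.val_pow_eq_pow_val, Units.val_pow_eq_pow_val, ← C.twist_twist S hl, ← pow_mul, ← pow_add,
      ← two_mul]
  have hmod : ∀ i j : ℕ, g ^ i = g ^ j → i < 2 ^ n - 1 → j < 2 ^ n - 1 → i = j := fun i j h hi hj =>
    pow_injOn_Iio_orderOf (by rwa [Set.mem_Iio, hg]) (by rwa [Set.mem_Iio, hg]) h
  have hpn : 4 ≤ 2 ^ n := by
    calc 4 = 2 ^ 2 := rfl
      _ ≤ _ := Nat.pow_le_pow_right (by norm_num) hn2
  have hlt : ∀ i, i < n → 2 ^ i < 2 ^ n - 1 := fun i hi => by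
    have h1 : 2 * 2 ^ i ≤ 2 ^ n := by
      rw [← pow_succ']; exact Nat.pow_le_pow_right (by norm_num) hi
    have := Nat.two_pow_pos i
    omega
  have h2lt : 2 < 2 ^ n - 1 := by omega
  have he := C.e_pos
  have hen := C.e_lt
  rcases lt_or_gt_of_ne (show 2 * C.e ≠ n by omega) with h | h
  · have h1 := hmod _ _ hge (hlt _ h) h2lt
    have : 2 * C.e = 1 := Nat.pow_right_injective le_rfl (h1.trans (pow_one 2).symm)
    omega
  · have h1 : g ^ 2 ^ (2 * C.e - n) = g ^ 2 ^ (2 * C.e) := by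
      ext
      rw [Units.val_pow_eq_pow_val, Units.val_pow_eq_pow_val]
      conv_rhs => rw [show 2 * C.e = (2 * C.e - n) + n by omega, pow_add, pow_mul, C.pow_card_eq]
    have h3 := hmod _ _ (h1.trans hge) (hlt _ (by omega)) h2lt
    have : 2 * C.e - n = 1 := Nat.pow_right_injective le_rfl (h3.trans (pow_one 2).symm)
    omega

open CfsgLib.Lie in
/-- The swap is the inversion of the ovoid. -/
theorem R_ovoid (S : TwoKernel G a b H n) (hl : C.lam = 0) {m : ℕ} (hm : n = 2 * m + 1) {x y : F}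
    (hxy : ¬ (x = 0 ∧ y = 0)) : C.R x y (y * (Suz.fO m x y)⁻¹) (x * (Suz.fO m x y)⁻¹) := by
  classical
  have he := C.exponent_eq S hl hm
  have hth : ∀ z : F, Suz.th m z = z ^ 2 ^ C.e := fun z => by rw [he]; rfl
  have hchi : ∀ j : F, Suz.th m (C.chi j) = j ^ 2 ^ C.e * j ^ 2 := fun j => by
    rw [hth, chi, mul_pow, C.twist_twist S hl]
  obtain ⟨j, hj⟩ := C.chi_surjective S (if x = 0 then y else y / C.chi x)
  by_cases hx : x = 0
  · subst hx
    rw [if_pos rfl] at hj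
    have hj0 : j ≠ 0 := by
      rintro rfl
      exact hxy ⟨rfl, by rw [← hj, C.chi_zero]⟩
    have h := C.R_center S hj0
    rw [← hj, zero_mul, Suz.fO, hth 0, zero_pow (Nat.two_pow_pos _).ne', zero_mul, zero_mul, zero_add, zero_add,
      hchi]
    convert h using 1
    have := pow_ne_zero (2 ^ C.e) hj0
    rw [chi]
    field_simp
  rw [if_neg hx] at hj
  have hk := C.chi_ne_zero hx
  have hy : y = C.chi x * C.chi j := by rw [hj, mul_div_cancel₀ _ hk]
  have hf : Suz.fO m x y = x ^ 2 ^ C.e * x ^ 2 * (1 + C.chi j + C.chi j * j) := by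
    rw [Suz.fO, hy, hth (C.chi x * _), mul_pow, ← hth, ← hth, hchi, hchi, hth, chi, chi]
    ring
  have h1 : C.R 1 (C.chi j) (C.chi j * (1 + C.chi j + C.chi j * j)⁻¹) (1 + C.chi j + C.chi j * j)⁻¹ := by
    obtain ⟨Y, hY⟩ := C.exists_curve S hl (C.chi j)
    by_cases hj0 : j = 0
    · subst hj0
      rw [C.chi_zero]
      simp only [zero_mul, add_zero, inv_one]
      exact C.R_one_zero S
    · have h := C.curve_eq S hl hj0 hY
      rwa [← eq_inv_of_mul_eq_one_left h]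
  have h2 := h1.scale hx
  rw [mul_one, ← hy] at h2
  convert h2 using 1 <;> rw [hf] <;> (try rw [hy]) <;> simp only [chi] <;>
    (have := pow_ne_zero (2 ^ C.e) hx; field_simp)

end Coord

end CfsgLib.SzUnique
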