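import Mathlib

/-!
# Uniqueness of the Suzuki groups: elimination
-/

set_option autoImplicit false
set_option maxRecDepth 20000
set_option maxHeartbeats 2000000


namespace CfsgLib.SzUnique

/-- The cofactor of the elimination. -/
def elimPoly {F : Type*} [CommRing F] (l k K : F) : F :=
  (1 + l ^ 2) * (k ^ 0 * K ^ 2) + (1 + l) * (k ^ 1 * K ^ 3) + (l + l ^ 2) * (k ^ 1 * K ^ 4) + l ^ 2 * (k ^ 2 * K ^ 0) + (l + l ^ 2) * (k ^ 2 * K ^ 3) + l * (k ^ 2 * K ^ 4) + l * (k ^ 3 * K ^ 1) + (l + l ^ 2) * (k ^ 3 * K ^ 2) + l ^ 2 * (k ^ 3 * K ^ 5) + (l + l ^ 2) * (k ^ 4 * K ^ 1) + (1 + l) * (k ^ 4 * K ^ 2) + (1 + l ^ 2) * (k ^ 5 * K ^ 3)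

variable {F : Type*} [CommRing F] [CharP F 2]

theorem elim_a11 (l k K : F) : (k * K + (1 + l) * K + l * k) * (1 + k * K) ^ 2 + l * (k * K) ^ 2 * (1 + k + K + k * K) = (K + k * K + k ^ 2 * K ^ 3 + k ^ 3 * K ^ 3 + l * K + l * k + l * k ^ 2 * K ^ 2 + l * k ^ 3 * K ^ 3) := by
  linear_combination (k * K ^ 2 + k ^ 2 * K ^ 2 + l * k * K ^ 2 + l * k ^ 2 * K + l * k ^ 2 * K ^ 3 + l * k ^ 3 * K ^ 2) * (CharTwo.two_eq_zero : (2 : F) = 0)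

theorem elim_a12 (l k K : F) : (k * K + (1 + l) * K + l * k) * (1 + k * K) ^ 2 + (1 + l) * (k * K) ^ 2 * (1 + k + K + k * K) = (K + k * K + k ^ 2 * K ^ 2 + k ^ 3 * K ^ 2 + l * K + l * k + l * k ^ 2 * K ^ 2 + l * k ^ 3 * K ^ 3) := by
  linear_combination (k * K ^ 2 + k ^ 2 * K ^ 2 + k ^ 2 * K ^ 3 + k ^ 3 * K ^ 3 + l * k * K ^ 2 + l * k ^ 2 * K + l * k ^ 2 * K ^ 3 + l * k ^ 3 * K ^ 2) * (CharTwo.two_eq_zero : (2 : F) = 0)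

theorem elim_b1 (l k K : F) : k * K * (k * K + (1 + l) * K + l * k) * (1 + k * K) ^ 2 + (k * K) ^ 2 * (1 + k + K + k * K) * (1 + k * K) = (k * K ^ 2 + k ^ 2 * K ^ 3 + k ^ 3 * K ^ 2 + k ^ 4 * K ^ 3 + l * k * K ^ 2 + l * k ^ 2 * K + l * k ^ 3 * K ^ 4 + l * k ^ 4 * K ^ 3) := by
  linear_combination (k ^ 2 * K ^ 2 + k ^ 2 * K ^ 3 + (2) * k ^ 3 * K ^ 3 + k ^ 3 * K ^ 4 + k ^ 4 * K ^ 4 + l * k ^ 2 * K ^ 3 + l * k ^ 3 * K ^ 2) * (CharTwo.two_eq_zero : (2 : F) = 0)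

theorem elim_a21 (l k K : F) : K * (((k * K + (1 + l) * K + l * k) + (1 + k + K + k * K)) * (1 + k * K) ^ 2 + l * (1 + k + K + k * K)) = (K + k * K + k ^ 2 * K ^ 3 + k ^ 3 * K ^ 3 + l * K + l * k * K ^ 2 + l * k ^ 2 * K ^ 4 + l * k ^ 3 * K ^ 3) := by
  linear_combination (K ^ 2 + (2) * k * K ^ 2 + (2) * k * K ^ 3 + k ^ 2 * K ^ 2 + (2) * k ^ 2 * K ^ 3 + k ^ 2 * K ^ 4 + k ^ 3 * K ^ 4 + l * K ^ 2 + l * k * K + l * k * K ^ 3 + l * k ^ 2 * K ^ 2) * (CharTwo.two_eq_zero : (2 : F) = 0)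

theorem elim_a22 (l k K : F) : k * (((k * K + (1 + l) * K + l * k) + (1 + k + K + k * K)) * (1 + k * K) ^ 2 + (1 + l) * (1 + k + K + k * K)) = (k * K + k ^ 2 * K + k ^ 3 * K ^ 2 + k ^ 4 * K ^ 2 + l * k + l * k ^ 2 * K + l * k ^ 3 * K ^ 3 + l * k ^ 4 * K ^ 2) := by
  linear_combination (k + k * K + k ^ 2 + (2) * k ^ 2 * K + (2) * k ^ 2 * K ^ 2 + k ^ 3 * K + (2) * k ^ 3 * K ^ 2 + k ^ 3 * K ^ 3 + k ^ 4 * K ^ 3 + l * k * K + l * k ^ 2 + l * k ^ 2 * K ^ 2 + l * k ^ 3 * K) * (CharTwo.two_eq_zero : (2 : F) = 0)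

theorem elim_b2 (l k K : F) : ((k * K + (1 + l) * K + l * k) + (1 + k + K + k * K)) * (1 + k * K) ^ 2 + (1 + k + K + k * K) * (1 + k * K) = (K + k * K ^ 2 + k ^ 2 * K + k ^ 3 * K ^ 2 + l * K + l * k + l * k ^ 2 * K ^ 3 + l * k ^ 3 * K ^ 2) := by
  linear_combination (1 + K + k + (3) * k * K + (2) * k * K ^ 2 + k ^ 2 * K + (3) * k ^ 2 * K ^ 2 + k ^ 2 * K ^ 3 + k ^ 3 * K ^ 3 + l * k * K ^ 2 + l * k ^ 2 * K) * (CharTwo.two_eq_zero : (2 : F) = 0)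

theorem elim_D (l k K : F) : (K + k * K + k ^ 2 * K ^ 3 + k ^ 3 * K ^ 3 + l * K + l * k + l * k ^ 2 * K ^ 2 + l * k ^ 3 * K ^ 3) * (k * K + k ^ 2 * K + k ^ 3 * K ^ 2 + k ^ 4 * K ^ 2 + l * k + l * k ^ 2 * K + l * k ^ 3 * K ^ 3 + l * k ^ 4 * K ^ 2) + (K + k * K + k ^ 2 * K ^ 2 + k ^ 3 * K ^ 2 + l * K + l * k + l * k ^ 2 * K ^ 2 + l * k ^ 3 * K ^ 3) * (K + k * K + k ^ 2 * K ^ 3 + k ^ 3 * K ^ 3 + l * K + l * k * K ^ 2 + l * k ^ 2 * K ^ 4 + l * k ^ 3 * K ^ 3) = (K ^ 2 + k * K ^ 2 + k ^ 2 * K ^ 2 + k ^ 2 * K ^ 3 + k ^ 2 * K ^ 4 + k ^ 3 * K ^ 2 + k ^ 3 * K ^ 3 + k ^ 3 * K ^ 4 + k ^ 4 * K ^ 3 + k ^ 4 * K ^ 4 + k ^ 4 * K ^ 5 + k ^ 5 * K ^ 3 + k ^ 5 * K ^ 4 + k ^ 5 * K ^ 5 + k ^ 6 * K ^ 5 + k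 ^ 7 * K ^ 5 + l * k * K ^ 2 + l * k * K ^ 3 + l * k ^ 2 * K + l * k ^ 2 * K ^ 3 + l * k ^ 2 * K ^ 4 + l * k ^ 2 * K ^ 5 + l * k ^ 3 * K + l * k ^ 3 * K ^ 2 + l * k ^ 3 * K ^ 4 + l * k ^ 3 * K ^ 5 + l * k ^ 4 * K ^ 2 + l * k ^ 4 * K ^ 3 + l * k ^ 4 * K ^ 5 + l * k ^ 4 * K ^ 6 + l * k ^ 5 * K ^ 2 + l * k ^ 5 * K ^ 3 + l * k ^ 5 * K ^ 4 + l * k ^ 5 * K ^ 6 + l * k ^ 6 * K ^ 4 + l * k ^ 6 * K ^ 5 + l ^ 2 * K ^ 2 + l ^ 2 * k * K ^ 3 + l ^ 2 * k ^ 2 + l ^ 2 * k ^ 2 * K ^ 3 + l ^ 2 * k ^ 2 * K ^ 5 + l ^ 2 * k ^ 3 * K + l ^ 2 * k ^ 3 * K ^ 2 + l ^ 2 * k ^ 3 * K ^ 4 + l ^ 2 * k ^ 4 * K ^ 3 + l ^ 2 * k ^ 4 * K ^ 5 + l ^ 2 * k ^ 4 * K ^ 6 + l ^ 2 * k ^ 5 * K ^ 2 + l ^ 2 * k ^ 5 * K ^ 4 + l ^ 2 *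 k ^ 5 * K ^ 7 + l ^ 2 * k ^ 6 * K ^ 4 + l ^ 2 * k ^ 7 * K ^ 5) := by
  linear_combination (k * K ^ 2 + k ^ 2 * K ^ 2 + k ^ 3 * K ^ 3 + k ^ 3 * K ^ 4 + k ^ 4 * K ^ 3 + k ^ 4 * K ^ 4 + k ^ 5 * K ^ 5 + k ^ 6 * K ^ 5 + l * K ^ 2 + l * k * K + l * k * K ^ 2 + l * k ^ 2 * K + l * k ^ 2 * K ^ 2 + l * k ^ 2 * K ^ 3 + (3) * l * k ^ 3 * K ^ 3 + (2) * l * k ^ 3 * K ^ 4 + (2) * l * k ^ 4 * K ^ 3 + (3) * l * k ^ 4 * K ^ 4 + l * k ^ 5 * K ^ 4 + l * k ^ 5 * K ^ 5 + l * k ^ 5 * K ^ 6 + l * k ^ 6 * K ^ 5 + l * k ^ 6 * K ^ 6 + l * k ^ 7 * K ^ 5 + l ^ 2 * k * K + l ^ 2 * k ^ 2 * K ^ 2 + (2) * l ^ 2 * k ^ 3 * K ^ 4 + (2) * l ^ 2 * k ^ 4 * K ^ 3 + l ^ 2 * k ^ 5 * K ^ 5 + l ^ 2 * k ^ 6 * K ^ 6) * (CharTwo.two_eq_zero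 : (2 : F) = 0)

theorem elim_Dm (l k K : F) : (k * K ^ 2 + k ^ 2 * K ^ 3 + k ^ 3 * K ^ 2 + k ^ 4 * K ^ 3 + l * k * K ^ 2 + l * k ^ 2 * K + l * k ^ 3 * K ^ 4 + l * k ^ 4 * K ^ 3) * (k * K + k ^ 2 * K + k ^ 3 * K ^ 2 + k ^ 4 * K ^ 2 + l * k + l * k ^ 2 * K + l * k ^ 3 * K ^ 3 + l * k ^ 4 * K ^ 2) + (K + k * K + k ^ 2 * K ^ 2 + k ^ 3 * K ^ 2 + l * K + l * k + l * k ^ 2 * K ^ 2 + l * k ^ 3 * K ^ 3) * (K + k * K ^ 2 + k ^ 2 * K + k ^ 3 * K ^ 2 + l * K + l * k + l * k ^ 2 * K ^ 3 + l * k ^ 3 * K ^ 2) = (K ^ 2 + k * K ^ 2 + k * K ^ 3 + k ^ 2 * K ^ 2 + k ^ 2 * K ^ 3 + k ^ 3 * K ^ 2 + k ^ 3 * K ^ 3 + k ^ 4 * K ^ 3 + k ^ 4 * K ^ 4 + k ^ 5 * K ^ 4 + k ^ 5 * K ^ 5 + k ^ 6 * K ^ 4 + k ^ 6 * K ^ 5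 + k ^ 7 * K ^ 4 + k ^ 7 * K ^ 5 + k ^ 8 * K ^ 5 + l * k * K ^ 2 + l * k * K ^ 3 + l * k ^ 2 * K + l * k ^ 2 * K ^ 2 + l * k ^ 2 * K ^ 3 + l * k ^ 2 * K ^ 4 + l * k ^ 3 * K + l * k ^ 3 * K ^ 4 + l * k ^ 5 * K ^ 3 + l * k ^ 5 * K ^ 6 + l * k ^ 6 * K ^ 3 + l * k ^ 6 * K ^ 4 + l * k ^ 6 * K ^ 5 + l * k ^ 6 * K ^ 6 + l * k ^ 7 * K ^ 4 + l * k ^ 7 * K ^ 5 + l ^ 2 * K ^ 2 + l ^ 2 * k ^ 2 + l ^ 2 * k ^ 2 * K ^ 2 + l ^ 2 * k ^ 2 * K ^ 3 + l ^ 2 * k ^ 2 * K ^ 4 + l ^ 2 * k ^ 3 * K + l ^ 2 * k ^ 3 * K ^ 2 + l ^ 2 * k ^ 3 * K ^ 3 + l ^ 2 * k ^ 3 * K ^ 4 + l ^ 2 * k ^ 4 * K ^ 3 + l ^ 2 * k ^ 4 * K ^ 4 + l ^ 2 * k ^ 5 * K ^ 3 + l ^ 2 * k ^ 5 * K ^ 4 + l ^ 2 * k ^ 5 * K ^ 5 + l ^ 2 * k ^ 5 * K ^ 6 +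 l ^ 2 * k ^ 6 * K ^ 3 + l ^ 2 * k ^ 6 * K ^ 4 + l ^ 2 * k ^ 6 * K ^ 5 + l ^ 2 * k ^ 6 * K ^ 7 + l ^ 2 * k ^ 8 * K ^ 5) := by
  linear_combination (k ^ 2 * K ^ 3 + k ^ 3 * K ^ 3 + k ^ 3 * K ^ 4 + k ^ 4 * K ^ 3 + k ^ 4 * K ^ 4 + k ^ 5 * K ^ 3 + k ^ 5 * K ^ 4 + k ^ 6 * K ^ 4 + l * K ^ 2 + l * k * K + l * k ^ 2 * K ^ 2 + l * k ^ 2 * K ^ 3 + l * k ^ 3 * K ^ 2 + (3) * l * k ^ 3 * K ^ 3 + l * k ^ 3 * K ^ 4 + (2) * l * k ^ 4 * K ^ 2 + l * k ^ 4 * K ^ 3 + l * k ^ 4 * K ^ 4 + (2) * l * k ^ 4 * K ^ 5 + l * k ^ 5 * K ^ 3 + (3) * l * k ^ 5 * K ^ 4 + l * k ^ 5 * K ^ 5 + l * k ^ 6 * K ^ 4 + l * k ^ 6 * K ^ 5 + l * k ^ 7 * K ^ 6 + l * k ^ 8 * K ^ 5 + l ^ 2 * k * K + l ^ 2 * k ^ 3 * K ^ 3 + l ^ 2 * k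 ^ 4 * K ^ 2 + l ^ 2 * k ^ 4 * K ^ 5 + l ^ 2 * k ^ 5 * K ^ 4 + l ^ 2 * k ^ 7 * K ^ 6) * (CharTwo.two_eq_zero : (2 : F) = 0)

theorem elim_DM (l k K : F) : (K + k * K + k ^ 2 * K ^ 3 + k ^ 3 * K ^ 3 + l * K + l * k + l * k ^ 2 * K ^ 2 + l * k ^ 3 * K ^ 3) * (K + k * K ^ 2 + k ^ 2 * K + k ^ 3 * K ^ 2 + l * K + l * k + l * k ^ 2 * K ^ 3 + l * k ^ 3 * K ^ 2) + (k * K ^ 2 + k ^ 2 * K ^ 3 + k ^ 3 * K ^ 2 + k ^ 4 * K ^ 3 + l * k * K ^ 2 + l * k ^ 2 * K + l * k ^ 3 * K ^ 4 + l * k ^ 4 * K ^ 3) * (K + k * K + k ^ 2 * K ^ 3 + k ^ 3 * K ^ 3 + l * K + l * k * K ^ 2 + l * k ^ 2 * K ^ 4 + l * k ^ 3 * K ^ 3) = (K ^ 2 + k * K ^ 2 + k ^ 2 * K ^ 2 + k ^ 3 * K ^ 2 + k ^ 4 * K ^ 6 + k ^ 5 * K ^ 6 + k ^ 6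 * K ^ 6 + k ^ 7 * K ^ 6 + l * k * K ^ 2 + l * k * K ^ 3 + l * k ^ 2 * K + l * k ^ 2 * K ^ 2 + l * k ^ 3 * K + l * k ^ 3 * K ^ 2 + l * k ^ 3 * K ^ 5 + l * k ^ 3 * K ^ 6 + l * k ^ 4 * K ^ 2 + l * k ^ 4 * K ^ 3 + l * k ^ 4 * K ^ 6 + l * k ^ 4 * K ^ 7 + l * k ^ 5 * K ^ 6 + l * k ^ 5 * K ^ 7 + l * k ^ 6 * K ^ 5 + l * k ^ 6 * K ^ 6 + l ^ 2 * K ^ 2 + l ^ 2 * k * K ^ 3 + l ^ 2 * k ^ 2 + l ^ 2 * k ^ 2 * K ^ 2 + l ^ 2 * k ^ 2 * K ^ 3 + l ^ 2 * k ^ 3 * K ^ 2 + l ^ 2 * k ^ 3 * K ^ 3 + l ^ 2 * k ^ 3 * K ^ 4 + l ^ 2 * k ^ 3 * K ^ 5 + l ^ 2 * k ^ 3 * K ^ 6 + l ^ 2 * k ^ 4 * K ^ 2 + l ^ 2 * k ^ 4 * K ^ 3 + l ^ 2 * k ^ 4 * K ^ 4 + l ^ 2 * k ^ 4 * K ^ 5 + l ^ 2 * k ^ 4 * K ^ 6 + l ^ 2 * k ^ 5 * K ^ 5 +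 l ^ 2 * k ^ 5 * K ^ 6 + l ^ 2 * k ^ 5 * K ^ 8 + l ^ 2 * k ^ 6 * K ^ 5 + l ^ 2 * k ^ 7 * K ^ 6) := by
  linear_combination (k * K ^ 3 + k ^ 2 * K ^ 3 + k ^ 2 * K ^ 4 + k ^ 3 * K ^ 3 + k ^ 3 * K ^ 4 + k ^ 3 * K ^ 5 + k ^ 4 * K ^ 3 + k ^ 4 * K ^ 4 + k ^ 4 * K ^ 5 + k ^ 5 * K ^ 4 + k ^ 5 * K ^ 5 + k ^ 6 * K ^ 5 + l * K ^ 2 + l * k * K + l * k * K ^ 3 + l * k ^ 2 * K ^ 2 + l * k ^ 2 * K ^ 3 + (2) * l * k ^ 2 * K ^ 4 + (2) * l * k ^ 3 * K ^ 3 + (2) * l * k ^ 3 * K ^ 4 + l * k ^ 3 * K ^ 5 + l * k ^ 4 * K ^ 3 + (2) * l * k ^ 4 * K ^ 4 + (2) * l * k ^ 4 * K ^ 5 + (2) * l * k ^ 5 * K ^ 4 + l * k ^ 5 * K ^ 5 + l * k ^ 5 * K ^ 6 + l * k ^ 6 * K ^ 5 + l * k ^ 6 * K ^ 7 + l * k ^ 7 * K ^ 6 + l ^ 2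 * k * K + l ^ 2 * k ^ 2 * K ^ 4 + l ^ 2 * k ^ 3 * K ^ 3 + l ^ 2 * k ^ 4 * K ^ 5 + l ^ 2 * k ^ 5 * K ^ 4 + l ^ 2 * k ^ 6 * K ^ 7) * (CharTwo.two_eq_zero : (2 : F) = 0)

theorem elim_DD (l k K : F) : (K ^ 2 + k * K ^ 2 + k ^ 2 * K ^ 2 + k ^ 2 * K ^ 3 + k ^ 2 * K ^ 4 + k ^ 3 * K ^ 2 + k ^ 3 * K ^ 3 + k ^ 3 * K ^ 4 + k ^ 4 * K ^ 3 + k ^ 4 * K ^ 4 + k ^ 4 * K ^ 5 + k ^ 5 * K ^ 3 + k ^ 5 * K ^ 4 + k ^ 5 * K ^ 5 + k ^ 6 * K ^ 5 + k ^ 7 * K ^ 5 + l * k * K ^ 2 + l * k * K ^ 3 + l * k ^ 2 * K + l * k ^ 2 * K ^ 3 + l * k ^ 2 * K ^ 4 + l * k ^ 2 * K ^ 5 + l * k ^ 3 * K + l * k ^ 3 * K ^ 2 + l * k ^ 3 * K ^ 4 + l * k ^ 3 * K ^ 5 + l * k ^ 4 * K ^ 2 + l * k ^ 4 * K ^ 3 + l * k ^ 4 * K ^ 5 + l * k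 ^ 4 * K ^ 6 + l * k ^ 5 * K ^ 2 + l * k ^ 5 * K ^ 3 + l * k ^ 5 * K ^ 4 + l * k ^ 5 * K ^ 6 + l * k ^ 6 * K ^ 4 + l * k ^ 6 * K ^ 5 + l ^ 2 * K ^ 2 + l ^ 2 * k * K ^ 3 + l ^ 2 * k ^ 2 + l ^ 2 * k ^ 2 * K ^ 3 + l ^ 2 * k ^ 2 * K ^ 5 + l ^ 2 * k ^ 3 * K + l ^ 2 * k ^ 3 * K ^ 2 + l ^ 2 * k ^ 3 * K ^ 4 + l ^ 2 * k ^ 4 * K ^ 3 + l ^ 2 * k ^ 4 * K ^ 5 + l ^ 2 * k ^ 4 * K ^ 6 + l ^ 2 * k ^ 5 * K ^ 2 + l ^ 2 * k ^ 5 * K ^ 4 + l ^ 2 * k ^ 5 * K ^ 7 + l ^ 2 * k ^ 6 * K ^ 4 + l ^ 2 * k ^ 7 * K ^ 5) ^ 2 = (K ^ 4 + k ^ 2 * K ^ 4 + k ^ 4 * K ^ 4 + k ^ 4 * K ^ 6 + k ^ 4 * K ^ 8 + k ^ 6 * K ^ 4 + k ^ 6 * K ^ 6 + k ^ 6 * K ^ 8 + k ^ 8 * K ^ 6 + k ^ 8 * K ^ 8 + k ^ 8 * K ^ 10 + k ^ 10 * K ^ 6 + k ^ 10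 * K ^ 8 + k ^ 10 * K ^ 10 + k ^ 12 * K ^ 10 + k ^ 14 * K ^ 10 + l ^ 2 * k ^ 2 * K ^ 4 + l ^ 2 * k ^ 2 * K ^ 6 + l ^ 2 * k ^ 4 * K ^ 2 + l ^ 2 * k ^ 4 * K ^ 6 + l ^ 2 * k ^ 4 * K ^ 8 + l ^ 2 * k ^ 4 * K ^ 10 + l ^ 2 * k ^ 6 * K ^ 2 + l ^ 2 * k ^ 6 * K ^ 4 + l ^ 2 * k ^ 6 * K ^ 8 + l ^ 2 * k ^ 6 * K ^ 10 + l ^ 2 * k ^ 8 * K ^ 4 + l ^ 2 * k ^ 8 * K ^ 6 + l ^ 2 * k ^ 8 * K ^ 10 + l ^ 2 * k ^ 8 * K ^ 12 + l ^ 2 * k ^ 10 * K ^ 4 + l ^ 2 * k ^ 10 * K ^ 6 + l ^ 2 * k ^ 10 * K ^ 8 + l ^ 2 * k ^ 10 * K ^ 12 + l ^ 2 * k ^ 12 * K ^ 8 + l ^ 2 * k ^ 12 * K ^ 10 + l ^ 4 * K ^ 4 + l ^ 4 * k ^ 2 * K ^ 6 + l ^ 4 * k ^ 4 + l ^ 4 * k ^ 4 * K ^ 6 + l ^ 4 * k ^ 4 * K ^ 10 + l ^ 4 * k ^ 6 * K ^ 2 + l ^ 4 *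 k ^ 6 * K ^ 4 + l ^ 4 * k ^ 6 * K ^ 8 + l ^ 4 * k ^ 8 * K ^ 6 + l ^ 4 * k ^ 8 * K ^ 10 + l ^ 4 * k ^ 8 * K ^ 12 + l ^ 4 * k ^ 10 * K ^ 4 + l ^ 4 * k ^ 10 * K ^ 8 + l ^ 4 * k ^ 10 * K ^ 14 + l ^ 4 * k ^ 12 * K ^ 8 + l ^ 4 * k ^ 14 * K ^ 10) := by
  simp only [CharTwo.add_sq, mul_pow, ← pow_mul, Nat.reduceMul]

theorem elim_final (l k K : F) : (K ^ 2 + k * K ^ 2 + k * K ^ 3 + k ^ 2 * K ^ 2 + k ^ 2 * K ^ 3 + k ^ 3 * K ^ 2 + k ^ 3 * K ^ 3 + k ^ 4 * K ^ 3 + k ^ 4 * K ^ 4 + k ^ 5 * K ^ 4 + k ^ 5 * K ^ 5 + k ^ 6 * K ^ 4 + k ^ 6 * K ^ 5 + k ^ 7 * K ^ 4 + k ^ 7 * K ^ 5 + k ^ 8 * K ^ 5 + l * k * K ^ 2 + l * k * K ^ 3 + l * k ^ 2 * K + l * k ^ 2 * K ^ 2 + l * k ^ 2 * K ^ 3 + l * k ^ 2 * K ^ 4 +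 l * k ^ 3 * K + l * k ^ 3 * K ^ 4 + l * k ^ 5 * K ^ 3 + l * k ^ 5 * K ^ 6 + l * k ^ 6 * K ^ 3 + l * k ^ 6 * K ^ 4 + l * k ^ 6 * K ^ 5 + l * k ^ 6 * K ^ 6 + l * k ^ 7 * K ^ 4 + l * k ^ 7 * K ^ 5 + l ^ 2 * K ^ 2 + l ^ 2 * k ^ 2 + l ^ 2 * k ^ 2 * K ^ 2 + l ^ 2 * k ^ 2 * K ^ 3 + l ^ 2 * k ^ 2 * K ^ 4 + l ^ 2 * k ^ 3 * K + l ^ 2 * k ^ 3 * K ^ 2 + l ^ 2 * k ^ 3 * K ^ 3 + l ^ 2 * k ^ 3 * K ^ 4 + l ^ 2 * k ^ 4 * K ^ 3 + l ^ 2 * k ^ 4 * K ^ 4 + l ^ 2 * k ^ 5 * K ^ 3 + l ^ 2 * k ^ 5 * K ^ 4 + l ^ 2 * k ^ 5 * K ^ 5 + l ^ 2 * k ^ 5 * K ^ 6 + l ^ 2 * k ^ 6 * K ^ 3 + l ^ 2 * k ^ 6 * K ^ 4 + l ^ 2 * k ^ 6 * K ^ 5 + l ^ 2 * k ^ 6 * K ^ 7 + l ^ 2 * k ^ 8 * K ^ 5) * (K ^ 2 + k * K ^ 2 + k ^ 2 * K ^ 2 +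 k ^ 3 * K ^ 2 + k ^ 4 * K ^ 6 + k ^ 5 * K ^ 6 + k ^ 6 * K ^ 6 + k ^ 7 * K ^ 6 + l * k * K ^ 2 + l * k * K ^ 3 + l * k ^ 2 * K + l * k ^ 2 * K ^ 2 + l * k ^ 3 * K + l * k ^ 3 * K ^ 2 + l * k ^ 3 * K ^ 5 + l * k ^ 3 * K ^ 6 + l * k ^ 4 * K ^ 2 + l * k ^ 4 * K ^ 3 + l * k ^ 4 * K ^ 6 + l * k ^ 4 * K ^ 7 + l * k ^ 5 * K ^ 6 + l * k ^ 5 * K ^ 7 + l * k ^ 6 * K ^ 5 + l * k ^ 6 * K ^ 6 + l ^ 2 * K ^ 2 + l ^ 2 * k * K ^ 3 + l ^ 2 * k ^ 2 + l ^ 2 * k ^ 2 * K ^ 2 + l ^ 2 * k ^ 2 * K ^ 3 + l ^ 2 * k ^ 3 * K ^ 2 + l ^ 2 * k ^ 3 * K ^ 3 + l ^ 2 * k ^ 3 * K ^ 4 + l ^ 2 * k ^ 3 * K ^ 5 + l ^ 2 * k ^ 3 * K ^ 6 + l ^ 2 * k ^ 4 * K ^ 2 + l ^ 2 * k ^ 4 * K ^ 3 + l ^ 2 * k ^ 4 * K ^ 4 + l ^ 2 * k ^ 4 * K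 ^ 5 + l ^ 2 * k ^ 4 * K ^ 6 + l ^ 2 * k ^ 5 * K ^ 5 + l ^ 2 * k ^ 5 * K ^ 6 + l ^ 2 * k ^ 5 * K ^ 8 + l ^ 2 * k ^ 6 * K ^ 5 + l ^ 2 * k ^ 7 * K ^ 6) + (K ^ 4 + k ^ 2 * K ^ 4 + k ^ 4 * K ^ 4 + k ^ 4 * K ^ 6 + k ^ 4 * K ^ 8 + k ^ 6 * K ^ 4 + k ^ 6 * K ^ 6 + k ^ 6 * K ^ 8 + k ^ 8 * K ^ 6 + k ^ 8 * K ^ 8 + k ^ 8 * K ^ 10 + k ^ 10 * K ^ 6 + k ^ 10 * K ^ 8 + k ^ 10 * K ^ 10 + k ^ 12 * K ^ 10 + k ^ 14 * K ^ 10 + l ^ 2 * k ^ 2 * K ^ 4 + l ^ 2 * k ^ 2 * K ^ 6 + l ^ 2 * k ^ 4 * K ^ 2 + l ^ 2 * k ^ 4 * K ^ 6 + l ^ 2 * k ^ 4 * K ^ 8 + l ^ 2 * k ^ 4 * K ^ 10 + l ^ 2 * k ^ 6 * K ^ 2 + l ^ 2 * k ^ 6 * K ^ 4 + l ^ 2 * k ^ 6 * K ^ 8 + l ^ 2 * k ^ 6 * K ^ 10 + l ^ 2 * k ^ 8 * K ^ 4 + l ^ 2 * k ^ 8 * K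 ^ 6 + l ^ 2 * k ^ 8 * K ^ 10 + l ^ 2 * k ^ 8 * K ^ 12 + l ^ 2 * k ^ 10 * K ^ 4 + l ^ 2 * k ^ 10 * K ^ 6 + l ^ 2 * k ^ 10 * K ^ 8 + l ^ 2 * k ^ 10 * K ^ 12 + l ^ 2 * k ^ 12 * K ^ 8 + l ^ 2 * k ^ 12 * K ^ 10 + l ^ 4 * K ^ 4 + l ^ 4 * k ^ 2 * K ^ 6 + l ^ 4 * k ^ 4 + l ^ 4 * k ^ 4 * K ^ 6 + l ^ 4 * k ^ 4 * K ^ 10 + l ^ 4 * k ^ 6 * K ^ 2 + l ^ 4 * k ^ 6 * K ^ 4 + l ^ 4 * k ^ 6 * K ^ 8 + l ^ 4 * k ^ 8 * K ^ 6 + l ^ 4 * k ^ 8 * K ^ 10 + l ^ 4 * k ^ 8 * K ^ 12 + l ^ 4 * k ^ 10 * K ^ 4 + l ^ 4 * k ^ 10 * K ^ 8 + l ^ 4 * k ^ 10 * K ^ 14 + l ^ 4 * k ^ 12 * K ^ 8 + l ^ 4 * k ^ 14 * K ^ 10) * (1 + k * K) = l * (1 + l) * k ^ 3 * K ^ 3 * (1 + k) ^ 3 * (1 + K) ^ 3 * (1 + k * K) * elimPoly l k K := by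
  simp only [elimPoly]
  linear_combination (K ^ 4 + k * K ^ 4 + k * K ^ 5 + (2) * k ^ 2 * K ^ 4 + k ^ 2 * K ^ 5 + (2) * k ^ 3 * K ^ 4 + (2) * k ^ 3 * K ^ 5 + (2) * k ^ 4 * K ^ 4 + (2) * k ^ 4 * K ^ 5 + k ^ 4 * K ^ 6 + k ^ 4 * K ^ 8 + k ^ 5 * K ^ 4 + (2) * k ^ 5 * K ^ 5 + k ^ 5 * K ^ 6 + k ^ 5 * K ^ 7 + k ^ 5 * K ^ 8 + k ^ 5 * K ^ 9 + k ^ 6 * K ^ 4 + k ^ 6 * K ^ 5 + (2) * k ^ 6 * K ^ 6 + k ^ 6 * K ^ 7 + (2) * k ^ 6 * K ^ 8 + k ^ 6 * K ^ 9 + k ^ 7 * K ^ 5 + (2) * k ^ 7 * K ^ 6 + (2) * k ^ 7 * K ^ 7 + (2) * k ^ 7 * K ^ 8 + (2) * k ^ 7 * K ^ 9 + (2) * k ^ 8 * K ^ 6 + (2) * k ^ 8 * K ^ 7 + (2) * k ^ 8 * K ^ 8 + (2) * k ^ 8 * K ^ 9 + k ^ 8 * K ^ 10 + k ^ 9 * K ^ 6 + (2) * k ^ 9 * K ^ 7 + k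 ^ 9 * K ^ 8 + (2) * k ^ 9 * K ^ 9 + k ^ 9 * K ^ 10 + k ^ 9 * K ^ 11 + k ^ 10 * K ^ 6 + k ^ 10 * K ^ 7 + k ^ 10 * K ^ 8 + k ^ 10 * K ^ 9 + (2) * k ^ 10 * K ^ 10 + k ^ 10 * K ^ 11 + k ^ 11 * K ^ 7 + k ^ 11 * K ^ 9 + (2) * k ^ 11 * K ^ 10 + (2) * k ^ 11 * K ^ 11 + (2) * k ^ 12 * K ^ 10 + (2) * k ^ 12 * K ^ 11 + k ^ 13 * K ^ 10 + (2) * k ^ 13 * K ^ 11 + k ^ 14 * K ^ 10 + k ^ 14 * K ^ 11 + k ^ 15 * K ^ 11 + l * k * K ^ 4 + l * k * K ^ 5 + l * k ^ 2 * K ^ 3 + (2) * l * k ^ 2 * K ^ 4 + (2) * l * k ^ 2 * K ^ 5 + l * k ^ 2 * K ^ 6 + (2) * l * k ^ 3 * K ^ 3 + (3) * l * k ^ 3 * K ^ 4 + (2) * l * k ^ 3 * K ^ 5 + (-1) * l * k ^ 3 * K ^ 7 + (2) * l * k ^ 4 * K ^ 3 + (4) * l * k ^ 4 * K ^ 4 + (2) *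 l * k ^ 4 * K ^ 5 + (-4) * l * k ^ 4 * K ^ 6 + (-7) * l * k ^ 4 * K ^ 7 + (-3) * l * k ^ 4 * K ^ 8 + (2) * l * k ^ 5 * K ^ 3 + (3) * l * k ^ 5 * K ^ 4 + (2) * l * k ^ 5 * K ^ 5 + (-5) * l * k ^ 5 * K ^ 6 + (-13) * l * k ^ 5 * K ^ 7 + (-9) * l * k ^ 5 * K ^ 8 + (-2) * l * k ^ 5 * K ^ 9 + l * k ^ 6 * K ^ 3 + (2) * l * k ^ 6 * K ^ 4 + (3) * l * k ^ 6 * K ^ 5 + (-2) * l * k ^ 6 * K ^ 6 + (-9) * l * k ^ 6 * K ^ 7 + (-9) * l * k ^ 6 * K ^ 8 + (-4) * l * k ^ 6 * K ^ 9 + l * k ^ 7 * K ^ 4 + (3) * l * k ^ 7 * K ^ 5 + l * k ^ 7 * K ^ 6 + (-2) * l * k ^ 7 * K ^ 7 + (-3) * l * k ^ 7 * K ^ 8 + (-1) * l * k ^ 7 * K ^ 9 + l * k ^ 7 * K ^ 10 + l * k ^ 8 * K ^ 5 + (-1) * l * k ^ 8 * K ^ 6 + (-3) * l *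 k ^ 8 * K ^ 7 + (-2) * l * k ^ 8 * K ^ 8 + l * k ^ 8 * K ^ 9 + (3) * l * k ^ 8 * K ^ 10 + l * k ^ 8 * K ^ 11 + (-4) * l * k ^ 9 * K ^ 6 + (-9) * l * k ^ 9 * K ^ 7 + (-9) * l * k ^ 9 * K ^ 8 + (-2) * l * k ^ 9 * K ^ 9 + (3) * l * k ^ 9 * K ^ 10 + (2) * l * k ^ 9 * K ^ 11 + l * k ^ 9 * K ^ 12 + (-2) * l * k ^ 10 * K ^ 6 + (-9) * l * k ^ 10 * K ^ 7 + (-13) * l * k ^ 10 * K ^ 8 + (-5) * l * k ^ 10 * K ^ 9 + (2) * l * k ^ 10 * K ^ 10 + (3) * l * k ^ 10 * K ^ 11 + (2) * l * k ^ 10 * K ^ 12 + (-3) * l * k ^ 11 * K ^ 7 + (-7) * l * k ^ 11 * K ^ 8 + (-4) * l * k ^ 11 * K ^ 9 + (2) * l * k ^ 11 * K ^ 10 + (4) * l * k ^ 11 * K ^ 11 + (2) * l * k ^ 11 * K ^ 12 + (-1) * l * k ^ 12 * K ^ 8 + (2) *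 l * k ^ 12 * K ^ 10 + (3) * l * k ^ 12 * K ^ 11 + (2) * l * k ^ 12 * K ^ 12 + l * k ^ 13 * K ^ 9 + (2) * l * k ^ 13 * K ^ 10 + (2) * l * k ^ 13 * K ^ 11 + l * k ^ 13 * K ^ 12 + l * k ^ 14 * K ^ 10 + l * k ^ 14 * K ^ 11 + l ^ 2 * K ^ 4 + l ^ 2 * k * K ^ 4 + l ^ 2 * k * K ^ 5 + l ^ 2 * k ^ 2 * K ^ 2 + (3) * l ^ 2 * k ^ 2 * K ^ 4 + (3) * l ^ 2 * k ^ 2 * K ^ 5 + (2) * l ^ 2 * k ^ 2 * K ^ 6 + l ^ 2 * k ^ 3 * K ^ 2 + (2) * l ^ 2 * k ^ 3 * K ^ 3 + (5) * l ^ 2 * k ^ 3 * K ^ 4 + (5) * l ^ 2 * k ^ 3 * K ^ 5 + (2) * l ^ 2 * k ^ 3 * K ^ 6 + (2) * l ^ 2 * k ^ 4 * K ^ 2 + (3) * l ^ 2 * k ^ 4 * K ^ 3 + (5) * l ^ 2 * k ^ 4 * K ^ 4 + (5) * l ^ 2 * k ^ 4 * K ^ 5 + (-7) * l ^ 2 * k ^ 4 * K ^ 7 + (-4) *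 l ^ 2 * k ^ 4 * K ^ 8 + (-2) * l ^ 2 * k ^ 4 * K ^ 9 + (2) * l ^ 2 * k ^ 5 * K ^ 2 + (3) * l ^ 2 * k ^ 5 * K ^ 3 + (4) * l ^ 2 * k ^ 5 * K ^ 4 + (6) * l ^ 2 * k ^ 5 * K ^ 5 + (-2) * l ^ 2 * k ^ 5 * K ^ 6 + (-17) * l ^ 2 * k ^ 5 * K ^ 7 + (-21) * l ^ 2 * k ^ 5 * K ^ 8 + (-12) * l ^ 2 * k ^ 5 * K ^ 9 + (-3) * l ^ 2 * k ^ 5 * K ^ 10 + l ^ 2 * k ^ 6 * K ^ 2 + (2) * l ^ 2 * k ^ 6 * K ^ 3 + (3) * l ^ 2 * k ^ 6 * K ^ 4 + (4) * l ^ 2 * k ^ 6 * K ^ 5 + (-2) * l ^ 2 * k ^ 6 * K ^ 6 + (-21) * l ^ 2 * k ^ 6 * K ^ 7 + (-33) * l ^ 2 * k ^ 6 * K ^ 8 + (-26) * l ^ 2 * k ^ 6 * K ^ 9 + (-9) * l ^ 2 * k ^ 6 * K ^ 10 + (-1) * l ^ 2 * k ^ 6 * K ^ 11 + l ^ 2 * k ^ 7 * K ^ 3 + (-4) * l ^ 2 * k ^ 7 * K ^ 5 +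 (-12) * l ^ 2 * k ^ 7 * K ^ 6 + (-18) * l ^ 2 * k ^ 7 * K ^ 7 + (-25) * l ^ 2 * k ^ 7 * K ^ 8 + (-26) * l ^ 2 * k ^ 7 * K ^ 9 + (-12) * l ^ 2 * k ^ 7 * K ^ 10 + (-1) * l ^ 2 * k ^ 7 * K ^ 11 + (-1) * l ^ 2 * k ^ 8 * K ^ 4 + (-12) * l ^ 2 * k ^ 8 * K ^ 5 + (-26) * l ^ 2 * k ^ 8 * K ^ 6 + (-25) * l ^ 2 * k ^ 8 * K ^ 7 + (-18) * l ^ 2 * k ^ 8 * K ^ 8 + (-12) * l ^ 2 * k ^ 8 * K ^ 9 + (-4) * l ^ 2 * k ^ 8 * K ^ 10 + l ^ 2 * k ^ 8 * K ^ 12 + (-1) * l ^ 2 * k ^ 9 * K ^ 4 + (-9) * l ^ 2 * k ^ 9 * K ^ 5 + (-26) * l ^ 2 * k ^ 9 * K ^ 6 + (-33) * l ^ 2 * k ^ 9 * K ^ 7 + (-21) * l ^ 2 * k ^ 9 * K ^ 8 + (-2) * l ^ 2 * k ^ 9 * K ^ 9 + (4) * l ^ 2 * k ^ 9 * K ^ 10 + (3) * l ^ 2 * k ^ 9 * K ^ 11 + (2)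 * l ^ 2 * k ^ 9 * K ^ 12 + l ^ 2 * k ^ 9 * K ^ 13 + (-3) * l ^ 2 * k ^ 10 * K ^ 5 + (-12) * l ^ 2 * k ^ 10 * K ^ 6 + (-21) * l ^ 2 * k ^ 10 * K ^ 7 + (-17) * l ^ 2 * k ^ 10 * K ^ 8 + (-2) * l ^ 2 * k ^ 10 * K ^ 9 + (6) * l ^ 2 * k ^ 10 * K ^ 10 + (4) * l ^ 2 * k ^ 10 * K ^ 11 + (3) * l ^ 2 * k ^ 10 * K ^ 12 + (2) * l ^ 2 * k ^ 10 * K ^ 13 + (-2) * l ^ 2 * k ^ 11 * K ^ 6 + (-4) * l ^ 2 * k ^ 11 * K ^ 7 + (-7) * l ^ 2 * k ^ 11 * K ^ 8 + (5) * l ^ 2 * k ^ 11 * K ^ 10 + (5) * l ^ 2 * k ^ 11 * K ^ 11 + (3) * l ^ 2 * k ^ 11 * K ^ 12 + (2) * l ^ 2 * k ^ 11 * K ^ 13 + (2) * l ^ 2 * k ^ 12 * K ^ 9 + (5) * l ^ 2 * k ^ 12 * K ^ 10 + (5) * l ^ 2 * k ^ 12 * K ^ 11 + (2) * l ^ 2 * k ^ 12 * K ^ 12 +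 l ^ 2 * k ^ 12 * K ^ 13 + (2) * l ^ 2 * k ^ 13 * K ^ 9 + (3) * l ^ 2 * k ^ 13 * K ^ 10 + (3) * l ^ 2 * k ^ 13 * K ^ 11 + l ^ 2 * k ^ 13 * K ^ 13 + l ^ 2 * k ^ 14 * K ^ 10 + l ^ 2 * k ^ 14 * K ^ 11 + l ^ 2 * k ^ 15 * K ^ 11 + l ^ 3 * k * K ^ 4 + l ^ 3 * k * K ^ 5 + l ^ 3 * k ^ 2 * K ^ 3 + l ^ 3 * k ^ 2 * K ^ 4 + l ^ 3 * k ^ 2 * K ^ 5 + l ^ 3 * k ^ 2 * K ^ 6 + l ^ 3 * k ^ 3 * K ^ 2 + (2) * l ^ 3 * k ^ 3 * K ^ 3 + (2) * l ^ 3 * k ^ 3 * K ^ 4 + (2) * l ^ 3 * k ^ 3 * K ^ 5 + l ^ 3 * k ^ 3 * K ^ 6 + l ^ 3 * k ^ 4 * K + l ^ 3 * k ^ 4 * K ^ 2 + (2) * l ^ 3 * k ^ 4 * K ^ 3 + (5) * l ^ 3 * k ^ 4 * K ^ 4 + (3) * l ^ 3 * k ^ 4 * K ^ 5 + (-2) * l ^ 3 * k ^ 4 * K ^ 6 + (-6) * l ^ 3 * k ^ 4 * K ^ 7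 + (-6) * l ^ 3 * k ^ 4 * K ^ 8 + (-3) * l ^ 3 * k ^ 4 * K ^ 9 + (-1) * l ^ 3 * k ^ 4 * K ^ 10 + l ^ 3 * k ^ 5 * K + l ^ 3 * k ^ 5 * K ^ 2 + (2) * l ^ 3 * k ^ 5 * K ^ 3 + (3) * l ^ 3 * k ^ 5 * K ^ 4 + (3) * l ^ 3 * k ^ 5 * K ^ 5 + (-3) * l ^ 3 * k ^ 5 * K ^ 6 + (-16) * l ^ 3 * k ^ 5 * K ^ 7 + (-22) * l ^ 3 * k ^ 5 * K ^ 8 + (-16) * l ^ 3 * k ^ 5 * K ^ 9 + (-6) * l ^ 3 * k ^ 5 * K ^ 10 + (-1) * l ^ 3 * k ^ 5 * K ^ 11 + l ^ 3 * k ^ 6 * K ^ 2 + l ^ 3 * k ^ 6 * K ^ 3 + (-2) * l ^ 3 * k ^ 6 * K ^ 4 + (-3) * l ^ 3 * k ^ 6 * K ^ 5 + (-7) * l ^ 3 * k ^ 6 * K ^ 6 + (-23) * l ^ 3 * k ^ 6 * K ^ 7 + (-38) * l ^ 3 * k ^ 6 * K ^ 8 + (-34) * l ^ 3 * k ^ 6 * K ^ 9 + (-16) * l ^ 3 * k ^ 6 * K ^ 10 + (-3)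 * l ^ 3 * k ^ 6 * K ^ 11 + (-6) * l ^ 3 * k ^ 7 * K ^ 4 + (-16) * l ^ 3 * k ^ 7 * K ^ 5 + (-23) * l ^ 3 * k ^ 7 * K ^ 6 + (-31) * l ^ 3 * k ^ 7 * K ^ 7 + (-40) * l ^ 3 * k ^ 7 * K ^ 8 + (-38) * l ^ 3 * k ^ 7 * K ^ 9 + (-22) * l ^ 3 * k ^ 7 * K ^ 10 + (-6) * l ^ 3 * k ^ 7 * K ^ 11 + (-6) * l ^ 3 * k ^ 8 * K ^ 4 + (-22) * l ^ 3 * k ^ 8 * K ^ 5 + (-38) * l ^ 3 * k ^ 8 * K ^ 6 + (-40) * l ^ 3 * k ^ 8 * K ^ 7 + (-31) * l ^ 3 * k ^ 8 * K ^ 8 + (-23) * l ^ 3 * k ^ 8 * K ^ 9 + (-16) * l ^ 3 * k ^ 8 * K ^ 10 + (-6) * l ^ 3 * k ^ 8 * K ^ 11 + (-3) * l ^ 3 * k ^ 9 * K ^ 4 + (-16) * l ^ 3 * k ^ 9 * K ^ 5 + (-34) * l ^ 3 * k ^ 9 * K ^ 6 + (-38) * l ^ 3 * k ^ 9 * K ^ 7 + (-23) * l ^ 3 * k ^ 9 * K ^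 8 + (-7) * l ^ 3 * k ^ 9 * K ^ 9 + (-3) * l ^ 3 * k ^ 9 * K ^ 10 + (-2) * l ^ 3 * k ^ 9 * K ^ 11 + l ^ 3 * k ^ 9 * K ^ 12 + l ^ 3 * k ^ 9 * K ^ 13 + (-1) * l ^ 3 * k ^ 10 * K ^ 4 + (-6) * l ^ 3 * k ^ 10 * K ^ 5 + (-16) * l ^ 3 * k ^ 10 * K ^ 6 + (-22) * l ^ 3 * k ^ 10 * K ^ 7 + (-16) * l ^ 3 * k ^ 10 * K ^ 8 + (-3) * l ^ 3 * k ^ 10 * K ^ 9 + (3) * l ^ 3 * k ^ 10 * K ^ 10 + (3) * l ^ 3 * k ^ 10 * K ^ 11 + (2) * l ^ 3 * k ^ 10 * K ^ 12 + l ^ 3 * k ^ 10 * K ^ 13 + l ^ 3 * k ^ 10 * K ^ 14 + (-1) * l ^ 3 * k ^ 11 * K ^ 5 + (-3) * l ^ 3 * k ^ 11 * K ^ 6 + (-6) * l ^ 3 * k ^ 11 * K ^ 7 + (-6) * l ^ 3 * k ^ 11 * K ^ 8 + (-2) * l ^ 3 * k ^ 11 * K ^ 9 + (3) * l ^ 3 * k ^ 11 * K ^ 10 + (5) * l ^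 3 * k ^ 11 * K ^ 11 + (2) * l ^ 3 * k ^ 11 * K ^ 12 + l ^ 3 * k ^ 11 * K ^ 13 + l ^ 3 * k ^ 11 * K ^ 14 + l ^ 3 * k ^ 12 * K ^ 9 + (2) * l ^ 3 * k ^ 12 * K ^ 10 + (2) * l ^ 3 * k ^ 12 * K ^ 11 + (2) * l ^ 3 * k ^ 12 * K ^ 12 + l ^ 3 * k ^ 12 * K ^ 13 + l ^ 3 * k ^ 13 * K ^ 9 + l ^ 3 * k ^ 13 * K ^ 10 + l ^ 3 * k ^ 13 * K ^ 11 + l ^ 3 * k ^ 13 * K ^ 12 + l ^ 3 * k ^ 14 * K ^ 10 + l ^ 3 * k ^ 14 * K ^ 11 + l ^ 4 * K ^ 4 + l ^ 4 * k * K ^ 5 + l ^ 4 * k ^ 2 * K ^ 2 + l ^ 4 * k ^ 2 * K ^ 4 + l ^ 4 * k ^ 2 * K ^ 5 + l ^ 4 * k ^ 2 * K ^ 6 + l ^ 4 * k ^ 3 * K ^ 3 + l ^ 4 * k ^ 3 * K ^ 4 + l ^ 4 * k ^ 3 * K ^ 5 + l ^ 4 * k ^ 4 + l ^ 4 * k ^ 4 * K ^ 2 + l ^ 4 * k ^ 4 * K ^ 3 + (2) * l ^ 4 * k ^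 4 * K ^ 4 + l ^ 4 * k ^ 4 * K ^ 5 + (-2) * l ^ 4 * k ^ 4 * K ^ 6 + (-5) * l ^ 4 * k ^ 4 * K ^ 7 + (-4) * l ^ 4 * k ^ 4 * K ^ 8 + (-2) * l ^ 4 * k ^ 4 * K ^ 9 + l ^ 4 * k ^ 5 * K + l ^ 4 * k ^ 5 * K ^ 2 + l ^ 4 * k ^ 5 * K ^ 3 + l ^ 4 * k ^ 5 * K ^ 4 + (-3) * l ^ 4 * k ^ 5 * K ^ 6 + (-8) * l ^ 4 * k ^ 5 * K ^ 7 + (-10) * l ^ 4 * k ^ 5 * K ^ 8 + (-7) * l ^ 4 * k ^ 5 * K ^ 9 + (-2) * l ^ 4 * k ^ 5 * K ^ 10 + l ^ 4 * k ^ 6 * K ^ 2 + (-2) * l ^ 4 * k ^ 6 * K ^ 4 + (-3) * l ^ 4 * k ^ 6 * K ^ 5 + (-3) * l ^ 4 * k ^ 6 * K ^ 6 + (-9) * l ^ 4 * k ^ 6 * K ^ 7 + (-14) * l ^ 4 * k ^ 6 * K ^ 8 + (-12) * l ^ 4 * k ^ 6 * K ^ 9 + (-7) * l ^ 4 * k ^ 6 * K ^ 10 + (-2) * l ^ 4 * k ^ 6 * K ^ 11 + (-5) * l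 ^ 4 * k ^ 7 * K ^ 4 + (-8) * l ^ 4 * k ^ 7 * K ^ 5 + (-9) * l ^ 4 * k ^ 7 * K ^ 6 + (-11) * l ^ 4 * k ^ 7 * K ^ 7 + (-12) * l ^ 4 * k ^ 7 * K ^ 8 + (-14) * l ^ 4 * k ^ 7 * K ^ 9 + (-10) * l ^ 4 * k ^ 7 * K ^ 10 + (-4) * l ^ 4 * k ^ 7 * K ^ 11 + (-4) * l ^ 4 * k ^ 8 * K ^ 4 + (-10) * l ^ 4 * k ^ 8 * K ^ 5 + (-14) * l ^ 4 * k ^ 8 * K ^ 6 + (-12) * l ^ 4 * k ^ 8 * K ^ 7 + (-11) * l ^ 4 * k ^ 8 * K ^ 8 + (-9) * l ^ 4 * k ^ 8 * K ^ 9 + (-8) * l ^ 4 * k ^ 8 * K ^ 10 + (-5) * l ^ 4 * k ^ 8 * K ^ 11 + (-2) * l ^ 4 * k ^ 9 * K ^ 4 + (-7) * l ^ 4 * k ^ 9 * K ^ 5 + (-12) * l ^ 4 * k ^ 9 * K ^ 6 + (-14) * l ^ 4 * k ^ 9 * K ^ 7 + (-9) * l ^ 4 * k ^ 9 * K ^ 8 + (-3) * l ^ 4 * k ^ 9 * K ^ 9 + (-3) *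 l ^ 4 * k ^ 9 * K ^ 10 + (-2) * l ^ 4 * k ^ 9 * K ^ 11 + l ^ 4 * k ^ 9 * K ^ 13 + (-2) * l ^ 4 * k ^ 10 * K ^ 5 + (-7) * l ^ 4 * k ^ 10 * K ^ 6 + (-10) * l ^ 4 * k ^ 10 * K ^ 7 + (-8) * l ^ 4 * k ^ 10 * K ^ 8 + (-3) * l ^ 4 * k ^ 10 * K ^ 9 + l ^ 4 * k ^ 10 * K ^ 11 + l ^ 4 * k ^ 10 * K ^ 12 + l ^ 4 * k ^ 10 * K ^ 13 + l ^ 4 * k ^ 10 * K ^ 14 + (-2) * l ^ 4 * k ^ 11 * K ^ 6 + (-4) * l ^ 4 * k ^ 11 * K ^ 7 + (-5) * l ^ 4 * k ^ 11 * K ^ 8 + (-2) * l ^ 4 * k ^ 11 * K ^ 9 + l ^ 4 * k ^ 11 * K ^ 10 + (2) * l ^ 4 * k ^ 11 * K ^ 11 + l ^ 4 * k ^ 11 * K ^ 12 + l ^ 4 * k ^ 11 * K ^ 13 + l ^ 4 * k ^ 11 * K ^ 15 + l ^ 4 * k ^ 12 * K ^ 10 + l ^ 4 * k ^ 12 * K ^ 11 + l ^ 4 * k ^ 12 * K ^ 12 + l ^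 4 * k ^ 13 * K ^ 9 + l ^ 4 * k ^ 13 * K ^ 10 + l ^ 4 * k ^ 13 * K ^ 11 + l ^ 4 * k ^ 13 * K ^ 13 + l ^ 4 * k ^ 14 * K ^ 10 + l ^ 4 * k ^ 15 * K ^ 11) * (CharTwo.two_eq_zero : (2 : F) = 0)

theorem elim_core (a11 a12 b1 a21 a22 b2 m M s : F) (hmM : m * M = 1 + s)
    (e1 : a11 * m + a12 * M = b1) (e2 : a21 * m + a22 * M = b2) :
    (b1 * a22 + a12 * b2) * (a11 * b2 + b1 * a21) + (a11 * a22 + a12 * a21) ^ 2 * (1 + s) = 0 := by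
  have h2 : (2 : F) = 0 := CharTwo.two_eq_zero
  have hm : (a11 * a22 + a12 * a21) * m = b1 * a22 + a12 * b2 := by
    linear_combination a22 * e1 + a12 * e2 - (a12 * a22 * M) * h2
  have hM : (a11 * a22 + a12 * a21) * M = a11 * b2 + b1 * a21 := by
    linear_combination a11 * e2 + a21 * e1 - (a11 * a21 * m) * h2
  rw [← hm, ← hM]
  linear_combination (a11 * a22 + a12 * a21) ^ 2 * hmM + (a11 * a22 + a12 * a21) ^ 2 * (1 + s) * h2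

/-- The two linear equations for `m` and `θ m` force `elimPoly` to vanish off the degenerate loci. -/
theorem elim_poly (l k K m M s : F) (hs : s = k * K) (hmM : m * M = 1 + s)
    (ha : (s + (1 + l) * K + l * k) * (1 + s) ^ 2 * (m + M + s) =
      s ^ 2 * (1 + k + K + s) * (1 + s + (1 + l) * M + l * m))
    (hb : ((s + (1 + l) * K + l * k) + (1 + k + K + s)) * (1 + s) ^ 2 * (K * m + k * M + 1) =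
      (1 + k + K + s) * (1 + s + (1 + l) * k * M + l * K * m)) :
    l * (1 + l) * k ^ 3 * K ^ 3 * (1 + k) ^ 3 * (1 + K) ^ 3 * (1 + s) * elimPoly l k K = 0 := by
  subst hs
  have h2 := (CharTwo.two_eq_zero : (2 : F) = 0)
  have e1 : ((k * K + (1 + l) * K + l * k) * (1 + k * K) ^ 2 + l * (k * K) ^ 2 * (1 + k + K + k * K)) * m + ((k * K + (1 + l) * K + l * k) * (1 + k * K) ^ 2 + (1 + l) * (k * K) ^ 2 * (1 + k + K + k * K)) * M = k * K * (k * K + (1 + l) * K + l * k) * (1 + k * K) ^ 2 + (k * K) ^ 2 * (1 + k + K + k * K) * (1 + k * K) := by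
    linear_combination ha + (k * K) ^ 2 * (1 + k + K + k * K) * ((1 + l) * M + l * m) * h2 - (k * K * (k * K + (1 + l) * K + l * k) * (1 + k * K) ^ 2) * h2
  have e2 : (K * (((k * K + (1 + l) * K + l * k) + (1 + k + K + k * K)) * (1 + k * K) ^ 2 + l * (1 + k + K + k * K))) * m + (k * (((k * K + (1 + l) * K + l * k) + (1 + k + K + k * K)) * (1 + k * K) ^ 2 + (1 + l) * (1 + k + K + k * K))) * M = ((k * K + (1 + l) * K + l * k) + (1 + k + K + k * K)) * (1 + k * K) ^ 2 + (1 + k + K + k * K) * (1 + k * K) := by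
    linear_combination hb + (1 + k + K + k * K) * ((1 + l) * k * M + l * K * m) * h2 - (((k * K + (1 + l) * K + l * k) + (1 + k + K + k * K)) * (1 + k * K) ^ 2) * h2
  have hF := elim_core _ _ _ _ _ _ m M (k * K) hmM e1 e2
  rw [elim_a11, elim_a12, elim_b1, elim_a21, elim_a22, elim_b2, elim_D, elim_Dm, elim_DM, elim_DD,
    elim_final] at hF
  exact hF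

end CfsgLib.SzUnique
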