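import Cfsg.Agent.Lib.SzUnique.Coord

/-!
# Uniqueness of the Suzuki groups: the equations satisfied by the swap

`R x y u v` says that the swap sends the point `c x y • b` to `c u v • b`. The two relations of the swap and the
action of the torus turn into implications between values of `R`; they force the equation `equation`.
-/

set_option autoImplicit false
set_option linter.unusedSectionVars false
set_option linter.style.haveILetI false

namespace CfsgLib.SzUnique

open Cfsg MulAction CfsgLib.Char CfsgLib.Char.ZassenhausOdd CfsgLib.Char.FeitZ CfsgLib.Char.SuzZ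

variable {G Ω : Type*} [Group G] [Finite G] [MulAction G Ω] [Fintype Ω] {a b : Ω} {H : Subgroup G} {n : ℕ}
variable [IsSimpleGroup G]
variable {t : G} {F : Type} [Field F] [Finite F] [CharP F 2]

namespace Coord

variable (C : Coord G a b H t F n)

/-- The character `x ↦ x θ x` of the torus on the centre. -/
def chi (x : F) : F := x * x ^ 2 ^ C.e

theorem chi_mul (x y : F) : C.chi (x * y) = C.chi x * C.chi y := by simp only [chi, mul_pow]; ring

theorem chi_one : C.chi 1 = 1 := by simp [chi]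

theorem chi_inv (x : F) : C.chi x⁻¹ = (C.chi x)⁻¹ := by simp only [chi, inv_pow, mul_inv]

theorem chi_div (x y : F) : C.chi (x / y) = C.chi x / C.chi y := by
  rw [div_eq_mul_inv, chi_mul, chi_inv, ← div_eq_mul_inv]

theorem chi_ne_zero {x : F} (hx : x ≠ 0) : C.chi x ≠ 0 := mul_ne_zero hx (pow_ne_zero _ hx)

theorem chi_zero : C.chi 0 = 0 := zero_mul _

theorem one_add_chi (x : F) : C.chi (1 + x) = 1 + x + x ^ 2 ^ C.e + x * x ^ 2 ^ C.e := by
  simp only [chi, add_pow_char_pow, one_pow]; ring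

theorem chi_injective (S : TwoKernel G a b H n) : Function.Injective C.chi := by
  intro x y h
  by_cases hy : y = 0
  · subst hy
    by_contra hx
    exact C.chi_ne_zero hx (h.trans C.chi_zero)
  have hx : x ≠ 0 := fun hx => C.chi_ne_zero hy (by rw [← h, hx, C.chi_zero])
  set k : Fˣ := Units.mk0 (x / y) (div_ne_zero hx hy) with hk
  have hs : C.chi (k : F) = 1 := by
    rw [hk, Units.val_mk0, C.chi_div, h, div_self (C.chi_ne_zero hy)]
  have h1 := C.d_conj k 0 1
  rw [mul_zero, mul_one, show (k : F) * (k : F) ^ 2 ^ C.e = 1 from hs] at h1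
  have hd : C.d k = 1 := by
    by_contra hd
    have h00 : C.c 0 0 = 1 := by
      have h := C.c_mul 0 0 0 0
      simp only [mul_zero, zero_mul, add_zero] at h
      exact mul_eq_left.1 h
    have h2 := (isFpfOn_kernel S.pt.ne S.pt.zas S.pt.le S.pt.fix).eq_one (C.d_mem k) hd (C.c_mem 0 1) h1
    exact one_ne_zero (C.c_inj (h2.trans h00.symm)).2
  have h3 := C.d_conj k 1 0
  rw [hd, one_mul, inv_one, mul_one, mul_one, mul_zero] at h3
  have h4 := (C.c_inj h3).1.symm
  rw [hk, Units.val_mk0, div_eq_one_iff_eq hy] at h4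
  exact h4

theorem chi_surjective (S : TwoKernel G a b H n) : Function.Surjective C.chi :=
  (Finite.injective_iff_bijective.1 (C.chi_injective S)).2

theorem c_zero : C.c 0 0 = 1 := by
  have h := C.c_mul 0 0 0 0
  simp only [mul_zero, zero_mul, add_zero] at h
  exact mul_eq_left.1 h

theorem e_inv : (C.c 1 0)⁻¹ = C.c 1 1 := by
  refine inv_eq_of_mul_eq_one_right ?_
  rw [C.c_mul, one_pow, CharTwo.add_self_eq_zero, show (0 : F) + 1 + ((1 + C.lam) * 1 * 1 + C.lam * 1 * 1) = 0 by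
    linear_combination (1 + C.lam) * (CharTwo.two_eq_zero : (2 : F) = 0), C.c_zero]

theorem z_mul (x y : F) : C.c 0 1 * C.c x y = C.c x (1 + y) := by
  rw [C.c_mul, zero_pow (Nat.two_pow_pos _).ne']
  congr 1 <;> ring

theorem e_inv_mul (x y : F) :
    (C.c 1 0)⁻¹ * C.c x y = C.c (1 + x) (1 + y + ((1 + C.lam) * x + C.lam * x ^ 2 ^ C.e)) := by
  rw [C.e_inv, C.c_mul, one_pow]
  congr 1
  ring

theorem t_mul_self (C : Coord G a b H t F n) : t * t = 1 := C.swap.mul_self

theorem t_smul_smul (C : Coord G a b H t F n) (ω : Ω) : t • t • ω = ω := by rw [← mul_smul, C.t_mul_self, one_smul]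

/-- The swap sends the point of `(x, y)` to the point of `(u, v)`. -/
def R (x y u v : F) : Prop := C.c u v • b = t • C.c x y • b

theorem R.symm {C : Coord G a b H t F n} {x y u v : F} (h : C.R x y u v) : C.R u v x y := by
  unfold Coord.R at h ⊢
  rw [h, C.t_smul_smul]

theorem smul_a (S : TwoKernel G a b H n) (x y : F) : C.c x y • a = a := S.pt.le (C.c_mem x y)

theorem point_inj (S : TwoKernel G a b H n) {x y u v : F} (h : C.c x y • b = C.c u v • b) : x = u ∧ y = v :=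
  C.c_inj (eq_of_smul S (C.c_mem x y) (C.c_mem u v) h)

theorem R_unique (S : TwoKernel G a b H n) {x y u v u' v' : F} (h : C.R x y u v) (h' : C.R x y u' v') :
    u = u' ∧ v = v' :=
  C.point_inj S (Eq.trans h (Eq.symm h'))

theorem point_ne_left (S : TwoKernel G a b H n) (x y : F) : C.c x y • b ≠ a := fun h =>
  S.pt.ne.symm (smul_left_cancel _ (h.trans (C.smul_a S x y).symm))

theorem exists_point (S : TwoKernel G a b H n) {ω : Ω} (hω : ω ≠ a) : ∃ x y, C.c x y • b = ω := by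
  obtain ⟨g, hg, -⟩ := S.exists_unique_move hω
  obtain ⟨x, y, hxy⟩ := C.c_surj g g.2
  exact ⟨x, y, by rw [hxy]; exact hg⟩

theorem exists_R (S : TwoKernel G a b H n) {x y : F} (h : x ≠ 0 ∨ y ≠ 0) : ∃ u v, C.R x y u v := by
  refine C.exists_point S fun hc => ?_
  have h1 : C.c x y • b = C.c 0 0 • b := by
    rw [C.c_zero, one_smul, ← C.t_smul_smul (C.c x y • b), hc, C.swap.smul_left]
  have h2 := C.point_inj S h1
  rcases h with h | h
  · exact h h2.1
  · exact h h2.2

theorem R.scale {C : Coord G a b H t F n} {x y u v k : F} (h : C.R x y u v) (hk : k ≠ 0) :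
    C.R (k * x) (C.chi k * y) (u / k) (v / C.chi k) := by
  set kk : Fˣ := Units.mk0 k hk with hkk
  have h1 : ∀ p q : F, C.c (k * p) (C.chi k * q) • b = C.d kk • C.c p q • b := fun p q => by
    have := C.d_conj kk p q
    rw [Units.val_mk0] at this
    rw [chi, ← this, mul_smul, mul_smul,
      show (C.d kk)⁻¹ • b = b from (inv_mem (C.d_mem kk) : (C.d kk)⁻¹ ∈ pairStab G a b).2]
  have h2 := h1 (u / k) (v / C.chi k)
  rw [mul_div_cancel₀ u hk, mul_div_cancel₀ v (C.chi_ne_zero hk)] at h2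
  show C.c (u / k) (v / C.chi k) • b = t • C.c (k * x) (C.chi k * y) • b
  rw [h1 x y, ← mul_smul t, C.swap.mul_pair (C.d_mem kk), mul_smul, ← h, h2, inv_smul_smul]

theorem R_base (S : TwoKernel G a b H n) : C.R 0 1 1 0 := by
  have h := congrArg (· • a) C.rel_one
  simp only [mul_smul] at h
  rw [C.swap.smul_left, show (C.c 1 0)⁻¹ • a = a from S.pt.le (inv_mem (C.c_mem 1 0)), C.swap.smul_left] at h
  exact h.symm

theorem R_center (S : TwoKernel G a b H n) {k : F} (hk : k ≠ 0) : C.R 0 (C.chi k) k⁻¹ 0 := by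
  have h := (C.R_base S).scale hk
  rwa [mul_zero, mul_one, zero_div, one_div] at h

/-- The first relation. -/
theorem R_step_one {x y u v p q : F} (h : C.R x y u v) (h' : C.R u (1 + v) p q) :
    C.R (1 + x) (1 + y + ((1 + C.lam) * x + C.lam * x ^ 2 ^ C.e))
      (1 + p) (1 + q + ((1 + C.lam) * p + C.lam * p ^ 2 ^ C.e)) := by
  unfold R at h h' ⊢
  have h1 := congrArg (· • (C.c x y • b)) C.rel_one
  simp only [mul_smul] at h1
  rw [← h, ← mul_smul (C.c 0 1), C.z_mul, ← h', ← mul_smul (C.c 1 0)⁻¹, C.e_inv_mul] at h1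
  rw [← C.e_inv_mul p q, mul_smul, h1, inv_smul_smul]

/-- The second relation. -/
theorem R_step_two {x y u v p q : F} (h : C.R x y u v) (h' : C.R x (1 + y) p q) :
    C.R (1 + u) (1 + v + ((1 + C.lam) * u + C.lam * u ^ 2 ^ C.e))
      (1 + p) (1 + q + ((1 + C.lam) * p + C.lam * p ^ 2 ^ C.e)) := by
  unfold R at h h' ⊢
  have h1 := congrArg (· • (C.c x y • b)) C.rel_two
  simp only [mul_smul] at h1
  rw [← h, ← mul_smul (C.c 0 1), C.z_mul, ← h', ← mul_smul (C.c 1 0)⁻¹, C.e_inv_mul,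
    ← mul_smul (C.c 1 0)⁻¹, C.e_inv_mul] at h1
  exact h1.symm

/-- The points `w k` and `w m` are exchanged when `χ m = 1 + χ k`. -/
theorem R_pair (S : TwoKernel G a b H n) {k m : F} (hk : k ≠ 0) (hm : m ≠ 0) (hkm : C.chi m = 1 + C.chi k) :
    C.R (1 + k⁻¹) (1 + ((1 + C.lam) * k⁻¹ + C.lam * k⁻¹ ^ 2 ^ C.e))
      (1 + m⁻¹) (1 + ((1 + C.lam) * m⁻¹ + C.lam * m⁻¹ ^ 2 ^ C.e)) := by
  have h := C.R_step_one (C.R_center S hk).symm (by rw [← hkm]; exact C.R_center S hm)
  rwa [add_zero] at h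

/-- The second relation between the points of `(1, y)` and `(1, 1 + y)`. -/
theorem R_shift (S : TwoKernel G a b H n) {j X Y : F} (hj : j ≠ 0) (h : C.R 1 (C.chi j) X Y) :
    C.R (1 + j * X) (1 + C.chi j * Y + ((1 + C.lam) * (j * X) + C.lam * (j * X) ^ 2 ^ C.e))
      1 (1 + C.chi j) := by
  have h1 := h.scale (inv_ne_zero hj)
  rw [C.chi_inv, inv_mul_cancel₀ (C.chi_ne_zero hj), mul_one, div_inv_eq_mul, div_inv_eq_mul] at h1
  have h2 : C.R j⁻¹ (1 + 1) 0 (C.chi j) := by
    rw [CharTwo.add_self_eq_zero]; exact (C.R_center S hj).symm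
  have h3 := C.R_step_two h1 h2
  rw [mul_comm X j, mul_comm Y (C.chi j)] at h3
  rwa [zero_pow (Nat.two_pow_pos _).ne', mul_zero, mul_zero, add_zero, add_zero, add_zero] at h3

theorem exists_partner (S : TwoKernel G a b H n) {k : F} (hk0 : k ≠ 0) (hk1 : k ≠ 1) :
    ∃ m, m ≠ 0 ∧ m ≠ 1 ∧ C.chi m = 1 + C.chi k := by
  obtain ⟨m, hm⟩ := C.chi_surjective S (1 + C.chi k)
  refine ⟨m, fun h => ?_, fun h => ?_, hm⟩
  · rw [h, C.chi_zero, eq_comm, CharTwo.add_eq_zero, ← C.chi_one] at hm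
    exact hk1 (C.chi_injective S hm).symm
  · rw [h, C.chi_one, left_eq_add] at hm
    exact C.chi_ne_zero hk0 hm

/-- The abscissa of the point paired with `(1, r)`, where `r = (χk + (1 + λ) θk + λ k) / χ (1 + k)`. -/
theorem R_curve (S : TwoKernel G a b H n) {k m : F} (hk0 : k ≠ 0) (hk1 : k ≠ 1) (hm0 : m ≠ 0)
    (hkm : C.chi m = 1 + C.chi k) :
    C.R 1 ((C.chi k + (1 + C.lam) * k ^ 2 ^ C.e + C.lam * k) / C.chi (1 + k))
      ((1 + m⁻¹) * (1 + k⁻¹)) ((1 + ((1 + C.lam) * m⁻¹ + C.lam * m⁻¹ ^ 2 ^ C.e)) * C.chi (1 + k⁻¹)) := by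
  have hk1' : 1 + k ≠ 0 := fun h => hk1 (CharTwo.add_eq_zero.1 h).symm
  have hi : 1 + k⁻¹ = (1 + k) / k := by field_simp; ring
  have hne : 1 + k⁻¹ ≠ 0 := by rw [hi]; exact div_ne_zero hk1' hk0
  have h := (C.R_pair S hk0 hm0 hkm).scale (inv_ne_zero hne)
  rw [inv_mul_cancel₀ hne, C.chi_inv, div_inv_eq_mul, div_inv_eq_mul] at h
  convert h using 1
  rw [hi, C.chi_div]
  have := C.chi_ne_zero hk1'
  have : k ^ 2 ^ C.e ≠ 0 := pow_ne_zero _ hk0
  simp only [chi] at *
  rw [inv_pow]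
  field_simp
  ring

/-- The fundamental equation. -/
theorem equation (S : TwoKernel G a b H n) {k m : F} (hk0 : k ≠ 0) (hk1 : k ≠ 1)
    (hkm : C.chi m = 1 + C.chi k) :
    (C.chi k + (1 + C.lam) * k ^ 2 ^ C.e + C.lam * k) * C.chi (1 + m) =
      C.chi k ^ 2 * C.chi (1 + k + m) := by
  obtain ⟨m', hm0, hm1, hm'⟩ := C.exists_partner S hk0 hk1
  obtain rfl : m' = m := C.chi_injective S (hm'.trans hkm.symm)
  clear hm'
  have hk1' : 1 + k ≠ 0 := fun h => hk1 (CharTwo.add_eq_zero.1 h).symm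
  have hm1' : 1 + m' ≠ 0 := fun h => hm1 (CharTwo.add_eq_zero.1 h).symm
  have hc := C.R_curve S hk0 hk1 hm0 hkm
  set r := (C.chi k + (1 + C.lam) * k ^ 2 ^ C.e + C.lam * k) / C.chi (1 + k) with hr
  obtain ⟨j, hj⟩ := C.chi_surjective S r
  have hX : (1 + m'⁻¹) * (1 + k⁻¹) ≠ 0 := by
    refine mul_ne_zero ?_ ?_ <;> field_simp
    · exact div_ne_zero (by rwa [add_comm]) hm0
    · exact div_ne_zero (by rwa [add_comm]) hk0
  have hj0 : j ≠ 0 := by
    rintro rfl
    rw [C.chi_zero] at hj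
    rw [← hj] at hc
    exact hX (C.R_unique S hc (C.R_base S).symm).1
  rw [← hj] at hc
  have hs := (C.R_shift S hj0 hc).symm
  rw [hj] at hs
  have hkm' : C.chi (m' / k) = 1 + C.chi k⁻¹ := by
    rw [C.chi_div, hkm, C.chi_inv]
    field_simp [C.chi_ne_zero hk0]
    ring
  have hc' := C.R_curve S (inv_ne_zero hk0) (fun h => hk1 (inv_eq_one.1 h)) (div_ne_zero hm0 hk0) hkm'
  have hr' : (C.chi k⁻¹ + (1 + C.lam) * k⁻¹ ^ 2 ^ C.e + C.lam * k⁻¹) / C.chi (1 + k⁻¹) = 1 + r := by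
    rw [hr, show 1 + k⁻¹ = (1 + k) / k by field_simp; ring, C.chi_div, C.chi_inv, inv_pow]
    have := C.chi_ne_zero hk1'
    have : k ^ 2 ^ C.e ≠ 0 := pow_ne_zero _ hk0
    rw [C.one_add_chi] at *
    simp only [chi]
    field_simp
    linear_combination -(k ^ 2 ^ C.e + k * k ^ 2 ^ C.e) * (CharTwo.two_eq_zero : (2 : F) = 0)
  rw [hr'] at hc'
  have hx := (C.R_unique S hs hc').1
  rw [inv_inv, inv_div] at hx
  have hjv : j * ((1 + k) * (1 + m')) = k ^ 2 * (1 + k + m') := by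
    field_simp at hx
    linear_combination hx
  have := congrArg C.chi hjv
  rw [C.chi_mul, C.chi_mul, C.chi_mul, hj, hr, pow_two, C.chi_mul] at this
  rw [pow_two (C.chi k), ← this, ← mul_assoc, div_mul_cancel₀ _ (C.chi_ne_zero hk1')]

end Coord

end CfsgLib.SzUnique
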