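import Cfsg.Agent.Lib.SzUnique.Equation
import Cfsg.Agent.Lib.SzUnique.Elim

/-!
# Uniqueness of the Suzuki groups: the cocycle is `θ x x'`

The fundamental equation makes `elimPoly λ k (θ k)` vanish; this is a polynomial in `k` of degree less than
`q - 2` when `2 e < n`, so `λ (1 + λ) = 0`. Replacing `θ` by its inverse exchanges `λ` and `1 + λ`.
-/

set_option autoImplicit false
set_option linter.unusedSectionVars false
set_option linter.style.haveILetI false

namespace CfsgLib.SzUnique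

open Cfsg MulAction CfsgLib.Char CfsgLib.Char.ZassenhausOdd CfsgLib.Char.FeitZ CfsgLib.Char.SuzZ

theorem elimPoly_map {A B : Type*} [CommRing A] [CommRing B] (f : A →+* B) (l k K : A) :
    f (elimPoly l k K) = elimPoly (f l) (f k) (f K) := by
  simp only [elimPoly, map_add, map_mul, map_pow, map_one]

open Polynomial in
theorem natDegree_elimPoly_le {A : Type*} [CommRing A] (l : A) (N : ℕ) :
    (elimPoly (C l) X (X ^ N)).natDegree ≤ 5 + 5 * N := by
  have key : ∀ (p : A[X]) (i j : ℕ), p.natDegree ≤ 0 → i ≤ 5 → j ≤ 5 →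
      (p * (X ^ i * (X ^ N) ^ j)).natDegree ≤ 5 + 5 * N := fun p i j hp hi hj => by
    rw [← pow_mul, ← pow_add]
    refine natDegree_mul_le.trans (le_trans (Nat.add_le_add hp (natDegree_X_pow_le _)) ?_)
    have : N * j ≤ N * 5 := Nat.mul_le_mul_left N hj
    omega
  simp only [elimPoly, ← C_1 (R := A), ← C_pow, ← C_add]
  iterate 11 refine natDegree_add_le_of_degree_le ?_ (key _ _ _ (natDegree_C _).le (by norm_num) (by norm_num))
  exact key _ _ _ (natDegree_C _).le (by norm_num) (by norm_num)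

open Polynomial in
theorem coeff_two_elimPoly {A : Type*} [CommRing A] (l : A) {N : ℕ} (hN : 2 ≤ N) :
    (elimPoly (C l) X (X ^ N)).coeff 2 = l ^ 2 := by
  simp only [elimPoly, ← C_1 (R := A), ← C_pow, ← C_add, ← pow_mul, ← pow_add, coeff_add, coeff_C_mul, coeff_X_pow]
  rw [if_neg (by omega), if_neg (by omega), if_neg (by omega), if_pos (by omega), if_neg (by omega),
    if_neg (by omega), if_neg (by omega), if_neg (by omega), if_neg (by omega), if_neg (by omega),
    if_neg (by omega), if_neg (by omega)]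
  ring

variable {G Ω : Type*} [Group G] [Finite G] [MulAction G Ω] [Fintype Ω] {a b : Ω} {H : Subgroup G} {n : ℕ}
variable [IsSimpleGroup G]
variable {t : G} {F : Type} [Field F] [Finite F] [CharP F 2]

namespace Coord

variable (C : Coord G a b H t F n)

theorem pow_card_eq (C : Coord G a b H t F n) (x : F) : x ^ 2 ^ n = x := by
  haveI := Fintype.ofFinite F
  rw [← C.card, Nat.card_eq_fintype_card, FiniteField.pow_card]

theorem elim_zero (S : TwoKernel G a b H n) {k : F} (hk0 : k ≠ 0) (hk1 : k ≠ 1)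
    (hl : C.lam ≠ 0) (hl1 : C.lam ≠ 1) : elimPoly C.lam k (k ^ 2 ^ C.e) = 0 := by
  obtain ⟨m, hm0, hm1, hkm⟩ := C.exists_partner S hk0 hk1
  have hE := C.equation S hk0 hk1 hkm
  have hE' := C.equation S hm0 hm1 (m := k) (by rw [hkm, ← add_assoc, CharTwo.add_self_eq_zero, zero_add])
  have hE2 := C.equation S (inv_ne_zero hk0) (fun h => hk1 (inv_eq_one.1 h)) (m := m / k) (by
    rw [C.chi_div, hkm, C.chi_inv]
    field_simp [C.chi_ne_zero hk0]
    ring)
  have hi : k⁻¹ ≠ 0 := inv_ne_zero hk0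
  have hE2' := C.equation S (div_ne_zero hm0 hk0) (k := m / k) (m := k⁻¹) (fun h => by
    rw [div_eq_one_iff_eq hk0] at h
    subst h
    exact one_ne_zero (α := F) (left_eq_add.1 (hkm.trans (add_comm _ _)))) (by
    rw [C.chi_div, hkm, C.chi_inv]
    field_simp [C.chi_ne_zero hk0]
    linear_combination -C.chi k * (CharTwo.two_eq_zero : (2 : F) = 0))
  set K := k ^ 2 ^ C.e with hK
  set M := m ^ 2 ^ C.e with hM
  have hs0 : k * K ≠ 0 := C.chi_ne_zero hk0
  have hs1 : 1 + k * K ≠ 0 := fun h => C.chi_ne_zero hm0 (hkm.trans h)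
  have hK0 : K ≠ 0 := pow_ne_zero _ hk0
  have hm' : m * M = 1 + k * K := hkm
  have h2 : (2 : F) = 0 := CharTwo.two_eq_zero
  have c1 : C.chi (1 + k) = 1 + k + K + k * K := C.one_add_chi k
  have c2 : C.chi (1 + m) = m + M + k * K := by rw [C.one_add_chi, ← hM, hm']; linear_combination h2
  have ha : (k * K + (1 + C.lam) * K + C.lam * k) * (1 + k * K) ^ 2 * (m + M + k * K) =
      (k * K) ^ 2 * (1 + k + K + k * K) * (1 + k * K + (1 + C.lam) * M + C.lam * m) := by
    rw [c2] at hE
    rw [c1, show (1 : F) + m + k = 1 + k + m by ring] at hE'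
    change (k * K + (1 + C.lam) * K + C.lam * k) * (m + M + k * K) = (k * K) ^ 2 * C.chi (1 + k + m) at hE
    change (m * M + (1 + C.lam) * M + C.lam * m) * (1 + k + K + k * K) = (m * M) ^ 2 * C.chi (1 + k + m) at hE'
    rw [hm'] at hE'
    linear_combination (1 + k * K) ^ 2 * hE - (k * K) ^ 2 * hE'
  have hb : ((k * K + (1 + C.lam) * K + C.lam * k) + (1 + k + K + k * K)) * (1 + k * K) ^ 2 *
      (K * m + k * M + 1) = (1 + k + K + k * K) * (1 + k * K + (1 + C.lam) * k * M + C.lam * K * m) := by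
    rw [show (1 : F) + m / k + k⁻¹ = 1 + k⁻¹ + m / k by ring] at hE2'
    simp only [C.one_add_chi] at hE2 hE2'
    simp only [chi, div_pow, inv_pow, ← hK, ← hM] at hE2 hE2'
    generalize (1 + k⁻¹ + m / k) * (1 + k⁻¹ + m / k) ^ 2 ^ C.e = Q at hE2 hE2'
    field_simp at hE2 hE2'
    linear_combination (1 + k * K) ^ 2 * hE2 - hE2' +
      (-(1 + k * K) ^ 2 * (1 + k * (1 + C.lam) + K * C.lam) + (1 + k + K + k * K) - Q * (m * M + (1 + k * K))) * hm' +
      (1 + k * K) ^ 2 * ((K + k * K) * (K * m + k * M + 1) - k * K * (1 + k * (1 + C.lam) + K * C.lam)) * h2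
  have h := elim_poly C.lam k K m M (k * K) rfl hm' ha hb
  simp only [mul_eq_zero, pow_eq_zero_iff (three_ne_zero (α := ℕ))] at h
  have h1 : (1 : F) + k ≠ 0 := fun h => hk1 (CharTwo.add_eq_zero.1 h).symm
  have h2' : (1 : F) + K ≠ 0 := fun h => C.chi_ne_zero (x := 1 + k) h1 (by
    rw [c1]; linear_combination (1 + k) * h)
  have h3 : (1 : F) + C.lam ≠ 0 := fun h => hl1 (CharTwo.add_eq_zero.1 h).symm
  simpa [hl, h3, hk0, hK0, h1, h2', hs1] using h

open Polynomial in
theorem lam_cases_aux (S : TwoKernel G a b H n) (hn : Odd n) (he : 2 * C.e < n) :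
    C.lam = 0 ∨ C.lam = 1 := by
  classical
  haveI := Fintype.ofFinite F
  by_contra hl
  push Not at hl
  have hz := fun (k : F) (hk : k ≠ 0 ∧ k ≠ 1) => C.elim_zero S hk.1 hk.2 hl.1 hl.2
  have hN : 2 ≤ 2 ^ C.e := by
    calc 2 = 2 ^ 1 := rfl
      _ ≤ _ := Nat.pow_le_pow_right (by norm_num) C.e_pos
  have hq : Fintype.card F = 2 ^ n := by rw [← Nat.card_eq_fintype_card, C.card]
  obtain ⟨j, rfl⟩ := hn
  rcases lt_or_ge j 2 with hj | hj
  · obtain rfl : j = 1 := by have := C.e_pos; omega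
    have he1 : C.e = 1 := by have := C.e_pos; omega
    set l := C.lam
    have h7 : ∀ k : F, k ≠ 0 → k ^ 7 = 1 := fun k hk => by
      have := FiniteField.pow_card_sub_one_eq_one k hk
      rwa [hq] at this
    set p : F[X] := Polynomial.C (1 + l ^ 2) * (1 + X) + Polynomial.C l * (X ^ 2 + X ^ 3 + X ^ 5 + X ^ 6) with hp
    have hp0 : p = 0 := by
      refine eq_zero_of_natDegree_lt_card_of_eval_eq_zero' p (Finset.univ.erase 0) (fun k hk => ?_) ?_
      · have hk0 : k ≠ 0 := (Finset.mem_erase.1 hk).1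
        simp only [hp, eval_add, eval_mul, eval_C, eval_one, eval_X, eval_pow]
        by_cases hk1 : k = 1
        · subst hk1
          linear_combination (1 + l ^ 2 + 2 * l) * (CharTwo.two_eq_zero : (2 : F) = 0)
        have h := hz k ⟨hk0, hk1⟩
        rw [he1] at h
        simp only [elimPoly] at h
        have h7' := h7 k hk0
        linear_combination h - ((1 + l) * 1 + (l + l ^ 2) * k ^ 2 + (l + l ^ 2) * k + l * k ^ 3 +
          (l + l ^ 2) * 1 + l ^ 2 * k ^ 6 + (1 + l) * k + (1 + l ^ 2) * k ^ 4) * h7' -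
          ((l + l ^ 2) * k ^ 6 + (1 + l ^ 2) * k ^ 4 + l + l * k - l * k ^ 6 + l ^ 2 * k ^ 2) * (CharTwo.two_eq_zero : (2 : F) = 0)
      · rw [Finset.card_erase_of_mem (Finset.mem_univ _), Finset.card_univ, hq]
        refine lt_of_le_of_lt (b := 6) ?_ (by norm_num)
        rw [hp]
        compute_degree
    have h3 : p.coeff 2 = l := by
      simp only [hp, coeff_add, coeff_C_mul, coeff_one, coeff_X, coeff_X_pow]; norm_num
    rw [hp0, coeff_zero] at h3
    exact hl.1 h3.symm
  · set p : F[X] := elimPoly (Polynomial.C C.lam) X (X ^ 2 ^ C.e) with hp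
    have hp0 : p = 0 := by
      refine eq_zero_of_natDegree_lt_card_of_eval_eq_zero' p ((Finset.univ.erase 0).erase 1) (fun k hk => ?_) ?_
      · simp only [Finset.mem_erase, Finset.mem_univ, and_true] at hk
        rw [hp, ← coe_evalRingHom, elimPoly_map]
        simp only [coe_evalRingHom, eval_C, eval_X, eval_pow]
        exact hz k ⟨hk.2, hk.1⟩
      · rw [Finset.card_erase_of_mem (Finset.mem_erase.2 ⟨one_ne_zero, Finset.mem_univ _⟩),
          Finset.card_erase_of_mem (Finset.mem_univ _), Finset.card_univ, hq]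
        refine lt_of_le_of_lt (natDegree_elimPoly_le _ _) ?_
        have h1 : 2 ^ C.e ≤ 2 ^ j := Nat.pow_le_pow_right (by norm_num) (by omega)
        have h2 : 4 ≤ 2 ^ j := by
          calc 4 = 2 ^ 2 := rfl
            _ ≤ _ := Nat.pow_le_pow_right (by norm_num) hj
        have h3 : 2 ^ (2 * j + 1) = 2 * (2 ^ j * 2 ^ j) := by rw [pow_succ, two_mul, pow_add]; ring
        have h4 : 4 * 2 ^ j ≤ 2 ^ j * 2 ^ j := Nat.mul_le_mul_right _ h2
        rw [h3]
        omega
    have h3 : p.coeff 2 = C.lam ^ 2 := coeff_two_elimPoly _ hN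
    rw [hp0, coeff_zero] at h3
    exact hl.1 (pow_eq_zero_iff two_ne_zero |>.1 h3.symm)

theorem pow_twice (C : Coord G a b H t F n) {i j : ℕ} (h : i + j = n) (x : F) : (x ^ 2 ^ i) ^ 2 ^ j = x := by
  rw [← pow_mul, ← pow_add, h, C.pow_card_eq]

/-- Replacing the twist by its inverse exchanges `λ` and `1 + λ`. -/
def mirror : Coord G a b H t F n where
  e := n - C.e
  lam := (1 + C.lam) ^ 2 ^ (n - C.e)
  c := fun x y => C.c x (y ^ 2 ^ C.e)
  d := C.d
  card := C.card
  e_pos := by have := C.e_lt; omega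
  e_lt := by have := C.e_pos; have := C.e_lt; omega
  swap := C.swap
  c_mem := fun x y => C.c_mem _ _
  c_surj := fun g hg => by
    obtain ⟨x, y, h⟩ := C.c_surj g hg
    exact ⟨x, y ^ 2 ^ (n - C.e), by
      rw [C.pow_twice (by have := C.e_lt; omega)]; exact h⟩
  c_inj := fun h => by
    obtain ⟨hx, hy⟩ := C.c_inj h
    refine ⟨hx, ?_⟩
    have hp := congrArg (fun z : F => z ^ 2 ^ (n - C.e)) hy
    simpa [C.pow_twice (show C.e + (n - C.e) = n by have := C.e_lt; omega)] using hp
  c_mul := fun x y x' y' => by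
    rw [C.c_mul]
    congr 1
    have h1 := C.pow_twice (i := n - C.e) (j := C.e) (by have := C.e_lt; omega)
    simp only [add_pow_char_pow, mul_pow, one_pow, h1]
    linear_combination x * x' ^ 2 ^ C.e * (CharTwo.two_eq_zero : (2 : F) = 0) * (-1)
  d_mem := C.d_mem
  d_surj := C.d_surj
  d_conj := fun k x y => by
    rw [C.d_conj]
    congr 1
    have h1 := C.pow_twice (i := n - C.e) (j := C.e) (by have := C.e_lt; omega)
    simp only [mul_pow, h1]
    ring
  rel_one := by
    have := C.rel_one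
    simpa [zero_pow (Nat.two_pow_pos C.e).ne'] using this
  rel_two := by
    have := C.rel_two
    simpa [zero_pow (Nat.two_pow_pos C.e).ne'] using this

theorem lam_cases (C : Coord G a b H t F n) (S : TwoKernel G a b H n) (hn : Odd n) : C.lam = 0 ∨ C.lam = 1 := by
  obtain ⟨j, hj⟩ := hn
  rcases lt_or_gt_of_ne (show 2 * C.e ≠ n by omega) with h | h
  · exact C.lam_cases_aux S ⟨j, hj⟩ h
  · have hm := C.mirror.lam_cases_aux S ⟨j, hj⟩ (show 2 * (n - C.e) < n by have := C.e_lt; omega)
    have h0 : ((1 : F) + C.lam) ^ 2 ^ (n - C.e) = 0 ∨ ((1 : F) + C.lam) ^ 2 ^ (n - C.e) = 1 := hm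
    rcases h0 with h0 | h0
    · rw [pow_eq_zero_iff (Nat.two_pow_pos _).ne', CharTwo.add_eq_zero] at h0
      exact Or.inr h0.symm
    · rw [add_pow_char_pow, one_pow, add_eq_left, pow_eq_zero_iff (Nat.two_pow_pos _).ne'] at h0
      exact Or.inl h0

theorem exists_lam_zero (C : Coord G a b H t F n) (S : TwoKernel G a b H n) (hn : Odd n) :
    ∃ C' : Coord G a b H t F n, C'.lam = 0 := by
  rcases C.lam_cases S hn with h | h
  · exact ⟨C, h⟩
  · refine ⟨C.mirror, ?_⟩
    show ((1 : F) + C.lam) ^ 2 ^ (n - C.e) = 0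
    rw [h, CharTwo.add_self_eq_zero, zero_pow (Nat.two_pow_pos _).ne']

end Coord

end CfsgLib.SzUnique
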