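import Cfsg.Agent.Lib.Char.SuzukiZassenhaus.Main

/-!
# Uniqueness of the Suzuki groups: the two relations of the swap

In a simple Zassenhaus group with non-abelian kernel `H` of order `q ^ 2`, the swap `t` and a suitable
central involution `z` satisfy `t z t = e t e⁻¹` and `t e⁻¹ t = e⁻¹ t z` where `e` is a non-central
element of `H` with `e ^ 2 = z`.
-/

set_option autoImplicit false
set_option linter.unusedSectionVars false
set_option linter.style.haveILetI false

namespace CfsgLib.SzUnique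

open Cfsg MulAction CfsgLib.Char CfsgLib.Char.ZassenhausOdd CfsgLib.Char.FeitZ CfsgLib.Char.SuzZ

variable {G Ω : Type*} [Group G] [Finite G] [MulAction G Ω] [Fintype Ω] {a b : Ω} {H : Subgroup G} {n : ℕ}

/-- A swap of the two points inverting their stabilizer. -/
structure IsSwap (G : Type*) [Group G] {Ω : Type*} [MulAction G Ω] (a b : Ω) (t : G) : Prop where
  smul_left : t • a = b
  smul_right : t • b = a
  mul_self : t * t = 1
  inverts : ∀ s ∈ pairStab G a b, t * s * t = s⁻¹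

namespace IsSwap

variable {t : G} (T : IsSwap G a b t)
include T

theorem inv_eq : t⁻¹ = t := inv_eq_of_mul_eq_one_right T.mul_self

theorem mul_pair {s : G} (hs : s ∈ pairStab G a b) : t * s = s⁻¹ * t := by
  rw [← T.inverts s hs, mul_assoc, T.mul_self, mul_one]

theorem pair_mul {s : G} (hs : s ∈ pairStab G a b) : s * t = t * s⁻¹ := by
  rw [T.mul_pair (inv_mem hs), inv_inv]

end IsSwap

theorem exists_isSwap [IsSimpleGroup G] (P : Pt G a b H) : ∃ t : G, IsSwap G a b t := by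
  obtain ⟨t, hta, htb⟩ := exists_map_pair P.zas P.ne P.ne.symm
  obtain ⟨hinv, hto⟩ := swap_inverts P.zas P.ne P.odd hta htb
  have ht : t * t = 1 := by rw [← pow_two, ← hto, pow_orderOf_eq_one]
  refine ⟨t, hta, htb, ht, fun s hs => ?_⟩
  conv_lhs => rw [show t * s * t = t⁻¹ * s * t by rw [inv_eq_of_mul_eq_one_right ht]]
  exact hinv s hs

theorem conj_mem (P : Pt G a b H) {s u : G} (hs : s ∈ pairStab G a b) (hu : u ∈ H) : s * u * s⁻¹ ∈ H :=
  (pairConj P ⟨s, hs⟩ ⟨u, hu⟩).2

theorem conj_mem_center (P : Pt G a b H) {s : G} (hs : s ∈ pairStab G a b) {z : H}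
    (hz : z ∈ Subgroup.center H) :
    (⟨s * z * s⁻¹, conj_mem P hs z.2⟩ : H) ∈ Subgroup.center H :=
  MulEquivClass.apply_mem_center (pairConj P ⟨s, hs⟩) hz

variable [IsSimpleGroup G]

theorem eq_of_smul (S : TwoKernel G a b H n) {u v : G} (hu : u ∈ H) (hv : v ∈ H) (h : u • b = v • b) :
    u = v := by
  have hne : u • b ≠ a := fun e => S.pt.ne.symm (smul_left_cancel _ (e.trans (S.pt.le hu : u • a = a).symm))
  exact congrArg Subtype.val ((S.exists_unique_move hne).unique (y₁ := ⟨u, hu⟩) (y₂ := ⟨v, hv⟩) rfl h.symm)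

theorem not_three_dvd (S : TwoKernel G a b H n) (hn : Odd n) (hc : Nat.card H = (2 ^ n) ^ 2) :
    ¬ 3 ∣ Nat.card G := by
  obtain ⟨m, rfl⟩ := hn
  intro h
  rw [card_group S.pt.zas S.pt.ne, ← S.pt.card, Nat.add_sub_cancel, hc,
    show Nat.card (pairStab G a b) = 2 ^ (2 * m + 1) - 1 from Nat.eq_sub_of_add_eq S.card_pair] at h
  have hq : 2 ^ (2 * m + 1) % 3 = 2 := by
    rw [pow_succ, pow_mul, Nat.mul_mod, Nat.pow_mod]; norm_num
  set q := 2 ^ (2 * m + 1)
  have h1 : (q ^ 2) % 3 = 1 := by rw [Nat.pow_mod, hq]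
  rcases (Nat.prime_three.dvd_mul).1 h with h | h
  · rcases (Nat.prime_three.dvd_mul).1 h with h | h <;> rw [Nat.dvd_iff_mod_eq_zero] at h
    · rw [Nat.add_mod, h1] at h; norm_num at h
    · omega
  · rw [Nat.dvd_iff_mod_eq_zero] at h
    obtain ⟨c, hc'⟩ : ∃ c, q = 3 * c + 2 := ⟨q / 3, by clear h h1; omega⟩
    rw [hc', show 3 * c + 2 - 1 = 3 * c + 1 by omega, Nat.mul_add_mod] at h
    norm_num at h

theorem eq_one_of_fix_class (S : TwoKernel G a b H n) {s : G} (hs : s ∈ pairStab G a b) {x : H}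
    (hx : x ∉ Subgroup.center H)
    (h : x⁻¹ * ⟨s * x * s⁻¹, conj_mem S.pt hs x.2⟩ ∈ Subgroup.center H) : s = 1 := by
  set y : H := ⟨s * x * s⁻¹, conj_mem S.pt hs x.2⟩ with hy
  have hxy : x * y = y * x := by
    have h' := Subgroup.mem_center_iff.1 h x
    calc x * y = x * (x * (x⁻¹ * y)) := by rw [mul_inv_cancel_left]
      _ = x * ((x⁻¹ * y) * x) := by rw [h']
      _ = y * x := by group
  have hyy : y * y = x * x := by
    rcases eq_or_ne (x⁻¹ * y) 1 with e | e
    · rw [inv_mul_eq_one] at e; rw [← e]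
    · have h2 : (x⁻¹ * y) * (x⁻¹ * y) = 1 := ((S.invol _).2 ⟨h, e⟩).2
      calc y * y = x * x * ((x⁻¹ * y) * (x⁻¹ * y)) := by
            rw [show x * x * ((x⁻¹ * y) * (x⁻¹ * y)) = x * (y * x⁻¹) * y by group,
              show y * x⁻¹ = x⁻¹ * y from ((Commute.inv_left (hxy : Commute x y)).eq).symm]
            group
        _ = x * x := by rw [h2, mul_one]
  have hsq : x * x ≠ 1 := fun e => hx (by
    by_cases hx1 : x = 1
    · rw [hx1]; exact one_mem _
    · exact ((S.invol x).1 ⟨hx1, e⟩).1)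
  by_contra hs1
  refine hsq (Subtype.ext ((isFpfOn_kernel S.pt.ne S.pt.zas S.pt.le S.pt.fix).eq_one hs hs1 (x * x).2 ?_))
  calc s * ((x * x : H) : G) * s⁻¹ = (y * y : H) := by rw [hy]; push_cast; group
    _ = _ := by rw [hyy]

/-- The swap moves a kernel point to a kernel point, with a torus correction. -/
theorem exists_expand (S : TwoKernel G a b H n) {t : G} (T : IsSwap G a b t) {z e : H} (hz1 : z ≠ 1)
    (hz : z * z = 1) (he : (e : G) • b = t • (z : G) • b) :
    ∃ d ∈ pairStab G a b, t * z * t = e * t * d * (e : G)⁻¹ := by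
  set h : G := ((e : G) * t)⁻¹ * (t * z * t) with hh
  have hha : h • a = a := by
    rw [hh, mul_smul, mul_smul, mul_smul, T.smul_left, ← he, inv_smul_eq_iff, mul_smul, T.smul_left]
  have hne : h • b ≠ a := fun e' => S.pt.ne.symm (smul_left_cancel _ (e'.trans hha.symm))
  obtain ⟨g, hg, -⟩ := S.exists_unique_move hne
  set d := (g : G)⁻¹ * h with hd
  have hdm : d ∈ pairStab G a b := ⟨by
    show d • a = a
    rw [hd, mul_smul, hha, inv_smul_eq_iff]
    exact (S.pt.le g.2).symm, by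
    show d • b = b
    rw [hd, mul_smul, ← hg, inv_smul_smul]⟩
  have e1 : t * z * t = e * t * g * d := by rw [hd, hh]; group
  clear_value d
  have e2 : t * z * t = d⁻¹ * (g : G)⁻¹ * d * t * (d * (e : G)⁻¹) := by
    have hinv : (t * z * t : G)⁻¹ = t * z * t := by
      rw [mul_inv_rev, mul_inv_rev, T.inv_eq, inv_eq_of_mul_eq_one_right (congrArg Subtype.val hz :),
        mul_assoc]
    rw [← hinv, e1, mul_inv_rev, mul_inv_rev, mul_inv_rev, T.inv_eq,
      show d⁻¹ * (g : G)⁻¹ * d * t * (d * (e : G)⁻¹) = d⁻¹ * (g : G)⁻¹ * (d * t) * (d * (e : G)⁻¹) by group,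
      T.pair_mul hdm]
    group
  have hw : d⁻¹ * (g : G)⁻¹ * d ∈ H := by simpa using conj_mem S.pt (inv_mem hdm) (inv_mem g.2)
  have e3 : (e : G) = d⁻¹ * (g : G)⁻¹ * d := by
    refine eq_of_smul S e.2 hw ?_
    have h3 := congrArg (· • a) (e1.symm.trans e2)
    simp only [mul_smul] at h3
    rw [show d • a = a from hdm.1, show (g : G) • a = a from S.pt.le g.2,
      show (e : G)⁻¹ • a = a from S.pt.le (inv_mem e.2), show d • a = a from hdm.1, T.smul_left] at h3
    rw [mul_smul, mul_smul]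
    exact h3
  refine ⟨d, hdm, ?_⟩
  rw [e1, e3]
  group

theorem swap_core_false (S : TwoKernel G a b H n) (hn : Odd n) (hc : Nat.card H = (2 ^ n) ^ 2) {t : G}
    (T : IsSwap G a b t) {z : H} (hz1 : z ≠ 1) (hz : z * z = 1) (hfix : (z : G) • b = t • (z : G) • b) :
    False := by
  obtain ⟨d, hd, he⟩ := exists_expand S T hz1 hz hfix
  have hzG : (z : G) * z = 1 := congrArg Subtype.val hz
  have hzi : (z : G)⁻¹ = z := inv_eq_of_mul_eq_one_right hzG
  rw [hzi] at he
  set y := t * (z : G) with hy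
  have hcube : y ^ 3 = z * d⁻¹ * z := by
    calc y ^ 3 = (t * z * t) * z * t * z := by rw [hy]; simp only [pow_succ, pow_zero, one_mul, mul_assoc]
      _ = z * (t * (d * (z * z) * t)) * z := by rw [he]; simp only [mul_assoc]
      _ = z * d⁻¹ * z := by rw [hzG, mul_one, T.pair_mul hd, ← mul_assoc t t, T.mul_self, one_mul]
  have hd1 : d = 1 := by
    by_contra hd1
    have hxa : (z * d⁻¹ * z : G) • a = a := by
      rw [mul_smul, mul_smul, show (z : G) • a = a from S.pt.le z.2,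
        show d⁻¹ • a = a from (inv_mem hd : d⁻¹ ∈ pairStab G a b).1]
      exact S.pt.le z.2
    have hxb : (z * d⁻¹ * z : G) • ((z : G) • b) = (z : G) • b := by
      rw [mul_smul, mul_smul, ← mul_smul (z : G) (z : G), hzG, one_smul,
        show d⁻¹ • b = b from (inv_mem hd : d⁻¹ ∈ pairStab G a b).2]
    have hx1 : (z * d⁻¹ * z : G) ≠ 1 := fun h => hd1 (inv_eq_one.1 (by
      calc d⁻¹ = (z : G) * (z * d⁻¹ * z) * z := by
            rw [show (z : G) * (z * d⁻¹ * z) * z = (z * z) * d⁻¹ * (z * z) by group, hzG, one_mul, mul_one]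
        _ = 1 := by rw [h, mul_one, hzG]))
    have hya : y • a = b := by rw [hy, mul_smul, show (z : G) • a = a from S.pt.le z.2, T.smul_left]
    have hfixb : (z * d⁻¹ * z : G) • b = b := by
      rw [← hya, ← hcube, ← mul_smul, ← pow_succ, pow_succ' y, mul_smul, hcube, hxa]
    have hab : a ≠ (z : G) • b := fun h => S.pt.ne (smul_left_cancel (z : G)
      ((S.pt.le z.2 : (z : G) • a = a).trans h))
    rcases fixed_eq_or S.pt.zas hx1 hab hxa hxb hfixb with h | h
    · exact S.pt.ne h.symm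
    · exact S.pt.ne (S.pt.fix (z : G) z.2 (fun h' => hz1 (Subtype.ext h')) b h.symm).symm
  have hy3 : y ^ 3 = 1 := by rw [hcube, hd1, inv_one, mul_one, hzG]
  haveI : Fact (Nat.Prime 3) := ⟨Nat.prime_three⟩
  have hy1 : y ≠ 1 := fun h => S.pt.ne (by
    calc a = y • a := by rw [h, one_smul]
      _ = b := by rw [hy, mul_smul, show (z : G) • a = a from S.pt.le z.2, T.smul_left])
  exact not_three_dvd S hn hc (orderOf_eq_prime hy3 hy1 ▸ orderOf_dvd_natCard y)

theorem conj_smul_swap (S : TwoKernel G a b H n) {t : G} (T : IsSwap G a b t) {s : G} (hs : s ∈ pairStab G a b)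
    {u v : G} (huv : v • b = t • u • b) : (s⁻¹ * v * s) • b = t • (s * u * s⁻¹) • b := by
  rw [mul_smul, mul_smul, show s • b = b from hs.2, huv, mul_smul, mul_smul,
    show s⁻¹ • b = b from (inv_mem hs : s⁻¹ ∈ pairStab G a b).2, ← mul_smul t s, T.mul_pair hs, mul_smul]

theorem exists_sqrt_pair (S : TwoKernel G a b H n) {r : G} (hr : r ∈ pairStab G a b) :
    ∃ s ∈ pairStab G a b, s * s = r := by
  obtain ⟨j, hj⟩ := S.pt.odd
  refine ⟨r ^ (j + 1), pow_mem hr _, ?_⟩
  have h : r ^ (2 * j + 1) = 1 := by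
    have := pow_card_eq_one' (x := (⟨r, hr⟩ : pairStab G a b))
    rw [hj] at this
    exact congrArg Subtype.val this
  rw [← pow_add, show j + 1 + (j + 1) = 2 * j + 1 + 1 by ring, pow_succ, h, one_mul]

/-- The two relations of the swap. -/
theorem exists_relations (S : TwoKernel G a b H n) (hn : Odd n) (hc : Nat.card H = (2 ^ n) ^ 2) {t : G}
    (T : IsSwap G a b t) :
    ∃ z e : H, z ∈ Subgroup.center H ∧ z ≠ 1 ∧ e ∉ Subgroup.center H ∧ e * e = z ∧
      t * z * t = e * t * (e : G)⁻¹ ∧ t * (e : G)⁻¹ * t = (e : G)⁻¹ * t * z := by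
  have hmove : ∀ u : H, u ≠ 1 → t • (u : G) • b ≠ a := fun u hu h => hu (Subtype.ext (eq_of_smul S u.2
    (one_mem H) (by rw [Subgroup.coe_one, one_smul]; exact smul_left_cancel t (h.trans T.smul_right.symm))))
  obtain ⟨z0, hz0, hz01⟩ : ∃ z ∈ Subgroup.center H, z ≠ 1 := by
    have h : 1 < Nat.card (Subgroup.center H) := by
      rw [S.card_center]; exact Nat.one_lt_two_pow (by have := S.two; omega)
    haveI := Finite.one_lt_card_iff_nontrivial.1 h
    obtain ⟨z, hz⟩ := exists_ne (1 : Subgroup.center H)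
    exact ⟨z.1, z.2, fun h => hz (Subtype.ext h)⟩
  obtain ⟨e0, he0, -⟩ := S.exists_unique_move (hmove z0 hz01)
  have hcc := fun (s : G) (hs : s ∈ pairStab G a b) => conj_mem_center S.pt hs (z := z0) hz0
  have he0c : e0 ∉ Subgroup.center H := by
    intro hc0
    have he1 : e0 ≠ 1 := by
      rintro rfl
      rw [Subgroup.coe_one, one_smul] at he0
      have h1 : (z0 : G) • b = a := by
        rw [← one_smul G ((z0 : G) • b), ← T.mul_self, mul_smul, ← he0, T.smul_right]
      exact S.pt.ne.symm (smul_left_cancel _ (h1.trans (S.pt.le z0.2 : (z0 : G) • a = a).symm))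
    have h2 := (S.invol z0).2 ⟨hz0, hz01⟩
    have h3 := (S.invol e0).2 ⟨hc0, he1⟩
    obtain ⟨r, hr, hre⟩ := S.trans z0 e0 h2.1 h2.2 h3.1 h3.2
    obtain ⟨s, hs, hss⟩ := exists_sqrt_pair S hr
    set z : H := ⟨s * z0 * s⁻¹, conj_mem S.pt hs z0.2⟩ with hz
    have hz1 : z ≠ 1 := fun h => hz01 (Subtype.ext (conj_eq_one_iff.1 (congrArg Subtype.val h)))
    refine swap_core_false S hn hc T hz1 ((S.invol z).2 ⟨hcc s hs, hz1⟩).2 ?_
    have := conj_smul_swap S T hs he0
    rw [← hre, ← hss, show s⁻¹ * (s * s * (z0 : G) * (s * s)⁻¹) * s = s * z0 * s⁻¹ by group] at this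
    exact this
  have hsq : e0 * e0 ≠ 1 := fun h => he0c (by
    by_cases h1 : e0 = 1
    · rw [h1]; exact one_mem _
    · exact ((S.invol e0).1 ⟨h1, h⟩).1)
  have h4 := (S.invol (e0 * e0)).2 ⟨S.sq e0, hsq⟩
  have h5 := (S.invol z0).2 ⟨hz0, hz01⟩
  obtain ⟨r, hr, hre⟩ := S.trans z0 (e0 * e0) h5.1 h5.2 h4.1 h4.2
  obtain ⟨s, hs, hss⟩ := exists_sqrt_pair S hr
  set z : H := ⟨s * z0 * s⁻¹, conj_mem S.pt hs z0.2⟩ with hz
  set e : H := ⟨s⁻¹ * e0 * s, by simpa using conj_mem S.pt (inv_mem hs) e0.2⟩ with he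
  have hzc : z ∈ Subgroup.center H := hcc s hs
  have hz1 : z ≠ 1 := fun h => hz01 (Subtype.ext (conj_eq_one_iff.1 (congrArg Subtype.val h)))
  have hee : e * e = z := Subtype.ext (by
    show s⁻¹ * e0 * s * (s⁻¹ * e0 * s) = s * z0 * s⁻¹
    calc s⁻¹ * e0 * s * (s⁻¹ * e0 * s) = s⁻¹ * ((e0 * e0 : H) : G) * s := by push_cast; group
      _ = s⁻¹ * (s * s * z0 * (s * s)⁻¹) * s := by rw [← hre, hss]
      _ = _ := by group)
  have hec : e ∉ Subgroup.center H := fun h => hz1 (by
    rw [← hee]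
    by_cases h1 : e = 1
    · rw [h1, mul_one]
    · exact ((S.invol e).2 ⟨h, h1⟩).2)
  have hzz : z * z = 1 := ((S.invol z).2 ⟨hzc, hz1⟩).2
  have hzzG : (z : G) * z = 1 := congrArg Subtype.val hzz
  have heG : (e : G) * e = z := congrArg Subtype.val hee
  obtain ⟨d, hd, hA⟩ := exists_expand S T (e := e) hz1 hzz (conj_smul_swap S T hs he0)
  -- the second relation, with the torus correction
  have hB : t * e * t = z * t * e * d⁻¹ := by
    calc t * e * t = t * ((e * t * d * (e : G)⁻¹) * e * d⁻¹) := by group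
      _ = t * (t * z * t * e * d⁻¹) := by rw [← hA]
      _ = _ := by simp only [mul_assoc]; rw [← mul_assoc t t, T.mul_self, one_mul]
  have hd1 : d = 1 := by
    set z' : H := ⟨d⁻¹ * z * d, by simpa using conj_mem S.pt (inv_mem hd) z.2⟩ with hz'
    have hz'c : z' ∈ Subgroup.center H := by simpa [hz'] using conj_mem_center S.pt (inv_mem hd) hzc
    have hez : (e : G)⁻¹ = z * e := by
      rw [inv_eq_iff_mul_eq_one, ← heG]
      calc (e : G) * (e * e * e) = (e * e) * (e * e) := by group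
        _ = 1 := by rw [heG, hzzG]
    have h1 : t * z * t = (t * e * t) * (t * e * t) := by
      calc t * z * t = t * (e * (t * t) * e) * t := by rw [T.mul_self, mul_one, heG]
        _ = _ := by group
    have h2 : (t * e * t) * (t * e * t) = z * (t * (e * z') * t) * (d * e * d⁻¹) := by
      rw [hB, hz']
      show z * t * e * d⁻¹ * (z * t * e * d⁻¹) = z * (t * (e * (d⁻¹ * z * d)) * t) * (d * e * d⁻¹)
      calc z * t * e * d⁻¹ * (z * t * e * d⁻¹) = z * t * (e * (d⁻¹ * z * d)) * (d⁻¹ * t) * e * d⁻¹ := by group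
        _ = _ := by rw [T.pair_mul (inv_mem hd), inv_inv]; group
    have h3 : t * (e * z') * t = (e : G)⁻¹ * t * d * (e : G)⁻¹ * (d * (e : G)⁻¹ * d⁻¹) := by
      rw [h1, h2] at hA
      calc t * (e * z') * t = (z : G)⁻¹ * (z * (t * (e * z') * t) * (d * e * d⁻¹)) * (d * e * d⁻¹)⁻¹ := by
            group
        _ = z * (e * t * d * (e : G)⁻¹) * (d * e * d⁻¹)⁻¹ := by
            rw [hA, inv_eq_of_mul_eq_one_right hzzG]
        _ = _ := by
            rw [show (z : G) * (e * t * d * (e : G)⁻¹) * (d * e * d⁻¹)⁻¹ =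
              (z * e) * t * d * (e : G)⁻¹ * (d * (e : G)⁻¹ * d⁻¹) by group, ← hez]
    have hBinv : t * (e : G)⁻¹ * t = d * (e : G)⁻¹ * t * z := by
      have h' := congrArg (·⁻¹) hB
      simp only [mul_inv_rev, inv_inv, T.inv_eq, inv_eq_of_mul_eq_one_right hzzG] at h'
      simp only [← mul_assoc] at h'
      exact h'
    set x : H := ⟨d * (e : G)⁻¹ * d⁻¹, conj_mem S.pt hd (inv_mem e.2)⟩ with hx
    have h4 : e * z' = x := by
      refine Subtype.ext (eq_of_smul S (mul_mem e.2 z'.2) x.2 ?_)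
      have p1 : (t * (e * z') * t) • a = (e : G)⁻¹ • b := by
        rw [h3]
        simp only [mul_smul]
        rw [show (d⁻¹ : G) • a = a from (inv_mem hd : d⁻¹ ∈ pairStab G a b).1,
          show (e : G)⁻¹ • a = a from S.pt.le (inv_mem e.2), show d • a = a from hd.1,
          show (e : G)⁻¹ • a = a from S.pt.le (inv_mem e.2), show d • a = a from hd.1, T.smul_left]
      rw [mul_smul, mul_smul, T.smul_left] at p1
      have p2 : (t * (e : G)⁻¹ * t) • a = (d * (e : G)⁻¹ * d⁻¹) • b := by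
        rw [hBinv]
        simp only [mul_smul]
        rw [show (z : G) • a = a from S.pt.le z.2, T.smul_left,
          show (d⁻¹ : G) • b = b from (inv_mem hd : d⁻¹ ∈ pairStab G a b).2]
      rw [mul_smul, mul_smul, T.smul_left, ← p1, ← mul_smul t, T.mul_self, one_smul] at p2
      exact p2
    have h5 : e⁻¹ * ⟨d * e * d⁻¹, conj_mem S.pt hd e.2⟩ ∈ Subgroup.center H := by
      have hxe : (⟨d * e * d⁻¹, conj_mem S.pt hd e.2⟩ : H) = x⁻¹ := Subtype.ext (by
        rw [hx]; show d * e * d⁻¹ = (d * (e : G)⁻¹ * d⁻¹)⁻¹; group)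
      rw [hxe, ← h4, show e⁻¹ * (e * z')⁻¹ = e⁻¹ * z'⁻¹ * e⁻¹ by group,
        Subgroup.mem_center_iff.1 (inv_mem hz'c) e⁻¹, mul_assoc, ← mul_inv_rev, hee]
      exact mul_mem (inv_mem hz'c) (inv_mem hzc)
    exact eq_one_of_fix_class S hd hec h5
  subst hd1
  refine ⟨z, e, hzc, hz1, hec, hee, by simpa using hA, ?_⟩
  have h' := congrArg (·⁻¹) hB
  simp only [mul_inv_rev, inv_inv, T.inv_eq, inv_eq_of_mul_eq_one_right hzzG, inv_one, one_mul, mul_one] at h'
  simp only [← mul_assoc] at h'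
  exact h'

end CfsgLib.SzUnique
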